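import Cfsg.Agent.Lib.Cert.S44.M
import Cfsg.Agent.Lib.Cert.Lin3
import Cfsg.Agent.Lib.Classical.SpUE

set_option autoImplicit false
set_option maxRecDepth 100000

namespace Cfsg.Agent.Ct.S44

open Cfsg.Agent.PC

open Cfsg.Agent.Fi Cfsg.Agent.Ct
def Ct1 : TN := (TN.node (TN.node (TN.node (TN.node (TN.leaf (nat_lit 1)) (TN.leaf (nat_lit 1))) (TN.node (TN.leaf (nat_lit 0x100000000)) (TN.leaf (nat_lit 0x10000000000000000000000000000000100000000)))) (TN.node (TN.node (TN.leaf (nat_lit 1)) (TN.leaf (nat_lit 1))) (TN.node (TN.leaf (nat_lit 0x100000001)) (TN.leaf (nat_lit 1))))) (TN.node (TN.node (TN.node (TN.leaf (nat_lit 0x100000000000000000000000000000000)) (TN.leaf (nat_lit 0x100000001000000000000000100000000000000010000000000000001))) (TN.node (TN.leaf (nat_lit 0x10000000100000000000000000000000100000000)) (TN.leaf (nat_lit 0x10000000000000000000000000000000000000001)))) (TN.node (TN.node (TN.leaf (nat_lit 0x100000000000000000000000000000000)) (TN.leaf (nat_lit 0x100000001000000000000000100000000000000010000000000000000)))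 (TN.node (TN.leaf (nat_lit 0x10000000000000000000000000000000100000000)) (TN.leaf (nat_lit 0x100000000000000000000000000000000))))))
def Ct2 : TN := (TN.node (TN.node (TN.node (TN.node (TN.leaf (nat_lit 0x100000000000000000000000000000000000000000000000000000000)) (TN.leaf (nat_lit 0x100000000000000000000000000000001000000000000000100000001))) (TN.node (TN.leaf (nat_lit 0x1000000000000000000000000000000010000000000000000)) (TN.leaf (nat_lit 0x10000000000000000)))) (TN.node (TN.node (TN.leaf (nat_lit 0x1000000000000000000000001000000000000000000000000)) (TN.leaf (nat_lit 0x10000000100000001))) (TN.node (TN.leaf (nat_lit 0x1000000000000000000000000000000000000000000000000)) (TN.leaf (nat_lit 0x10000000000000000))))) (TN.node (TN.node (TN.node (TN.leaf (nat_lit 0x1000000010000000000000000)) (TN.leaf (nat_lit 0x100000000000000000000000000000000000000010000000000000001))) (TN.node (TN.leaf (nat_lit 0x10000000000000000)) (TN.leaf (nat_lit 0x1000000000000000000000000000000000000000000000000))))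 (TN.node (TN.node (TN.leaf (nat_lit 0x100000000000000000000000000000001000000000000000000000000)) (TN.leaf (nat_lit 0x1000000000000000000000000000000000000000000000001))) (TN.node (TN.leaf (nat_lit 0x1000000000000000000000000000000010000000000000000)) (TN.leaf (nat_lit 0x1000000000000000000000000000000000000000000000000))))))
def Ct3 : TN := (TN.node Ct1 Ct2)
def Ct4 : TN := (TN.node (TN.node (TN.node (TN.node (TN.leaf (nat_lit 0x100000000)) (TN.leaf (nat_lit 0x100000000))) (TN.node (TN.leaf (nat_lit 0x100000001)) (TN.leaf (nat_lit 0x10000000100000000000000000000000100000001)))) (TN.node (TN.node (TN.leaf (nat_lit 0x100000000)) (TN.leaf (nat_lit 0x100000000))) (TN.node (TN.leaf (nat_lit 1)) (TN.leaf (nat_lit 0x100000000))))) (TN.node (TN.node (TN.node (TN.leaf (nat_lit 0x10000000000000000000000000000000000000000)) (TN.leaf (nat_lit 0x1000000010000000000000001000000000000000100000000))) (TN.node (TN.leaf (nat_lit 0x100000000000000000000000100000001)) (TN.leaf (nat_lit 0x10000000100000000000000000000000100000000))))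 (TN.node (TN.node (TN.leaf (nat_lit 0x10000000000000000000000000000000000000000)) (TN.leaf (nat_lit 0x1000000010000000000000001000000000000000000000000))) (TN.node (TN.leaf (nat_lit 0x10000000100000000000000000000000100000001)) (TN.leaf (nat_lit 0x10000000000000000000000000000000000000000))))))
def Ct5 : TN := (TN.node (TN.node (TN.node (TN.node (TN.leaf (nat_lit 0x100000001000000000000000000000000000000000000000000000000)) (TN.leaf (nat_lit 0x100000001000000000000000000000001000000010000000000000001))) (TN.node (TN.leaf (nat_lit 0x100000000000000000000000000000001000000000000000000000000)) (TN.leaf (nat_lit 0x1000000000000000000000000)))) (TN.node (TN.node (TN.leaf (nat_lit 0x100000000000000000000000000000001000000010000000000000000)) (TN.leaf (nat_lit 0x1000000000000000000000001))) (TN.node (TN.leaf (nat_lit 0x100000000000000000000000000000000000000000000000000000000)) (TN.leaf (nat_lit 0x1000000000000000000000000))))) (TN.node (TN.node (TN.node (TN.leaf (nat_lit 0x10000000000000000))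 (TN.leaf (nat_lit 0x100000001000000000000000000000001000000000000000100000000))) (TN.node (TN.leaf (nat_lit 0x1000000000000000000000000)) (TN.leaf (nat_lit 0x100000000000000000000000000000000000000000000000000000000)))) (TN.node (TN.node (TN.leaf (nat_lit 0x100000001000000000000000000000001000000010000000000000000)) (TN.leaf (nat_lit 0x100000000000000000000000000000000000000000000000100000000))) (TN.node (TN.leaf (nat_lit 0x100000000000000000000000000000001000000000000000000000000)) (TN.leaf (nat_lit 0x100000000000000000000000000000000000000000000000000000000))))))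
def Ct6 : TN := (TN.node Ct4 Ct5)
def Ct : TN := (TN.node Ct3 Ct6)
noncomputable def C (j i : ℕ) : ℕ := TN.get Ct (Nat.add (Nat.mul j (nat_lit 8)) i)
def ix : Fin 2 ⊕ Fin 2 → ℕ := Sum.elim Fin.val fun i => 2 + i.val
noncomputable def M (j : ℕ) : Matrix (Fin 2 ⊕ Fin 2) (Fin 2 ⊕ Fin 2) K4 := mx ix (kel 2) 2 (C j)
def nv (i : ℕ) : ℕ := Nat.land (Nat.shiftRight (nat_lit 0x1ac4c8) (Nat.mul (nat_lit 3) i)) (nat_lit 7)
def ws : List (List ℕ × ℕ) := [([nat_lit 2, nat_lit 2, nat_lit 2], (nat_lit 7)), ([nat_lit 0, nat_lit 1, nat_lit 0, nat_lit 1], (nat_lit 7)), ([nat_lit 1, nat_lit 2, nat_lit 1, nat_lit 2, nat_lit 1, nat_lit 2], (nat_lit 7)), ([nat_lit 2, nat_lit 0, nat_lit 3, nat_lit 1], (nat_lit 7)), ([nat_lit 2, nat_lit 4, nat_lit 2, nat_lit 4, nat_lit 2, nat_lit 4], (nat_lit 7)), ([nat_lit 0, nat_lit 1, nat_lit 4, nat_lit 0, nat_lit 1, nat_lit 4, nat_lit 0, nat_lit 1, nat_lit 4], (nat_lit 7)), ([nat_lit 4, nat_lit 0, nat_lit 4, nat_lit 3, nat_lit 0, nat_lit 4, nat_lit 0, nat_lit 2], (nat_lit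 7)), ([nat_lit 0, nat_lit 5, nat_lit 0, nat_lit 5, nat_lit 0, nat_lit 5, nat_lit 0, nat_lit 5], (nat_lit 7)), ([nat_lit 1, nat_lit 5, nat_lit 1, nat_lit 5, nat_lit 1, nat_lit 5, nat_lit 1, nat_lit 5], (nat_lit 7)), ([nat_lit 2, nat_lit 5, nat_lit 2, nat_lit 5, nat_lit 2, nat_lit 5], (nat_lit 7)), ([nat_lit 4, nat_lit 5, nat_lit 4, nat_lit 5], (nat_lit 7)), ([nat_lit 2, nat_lit 5, nat_lit 4, nat_lit 2, nat_lit 5, nat_lit 4, nat_lit 2, nat_lit 5, nat_lit 4], (nat_lit 7)), ([nat_lit 5, nat_lit 0, nat_lit 4, nat_lit 2, nat_lit 0, nat_lit 5, nat_lit 0, nat_lit 3, nat_lit 4, nat_lit 0], (nat_lit 7)), ([nat_lit 5, nat_lit 0, nat_lit 5, nat_lit 1, nat_lit 5, nat_lit 0, nat_lit 5, nat_lit 1], (nat_lit 7)), ([nat_lit 5, nat_lit 1, nat_lit 3, nat_lit 5, nat_lit 1, nat_lit 4, nat_lit 3, nat_lit 5, nat_lit 0, nat_lit 5, nat_lit 0, nat_lit 2, nat_lit 4, nat_lit 0, nat_lit 2], (nat_lit 7)), ([nat_lit 0, nat_lit 6, nat_lit 0, nat_lit 6], (nat_lit 7)), ([nat_lit 1, nat_lit 6, nat_lit 1, nat_lit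 6], (nat_lit 7)), ([nat_lit 2, nat_lit 6, nat_lit 2, nat_lit 6, nat_lit 2, nat_lit 6], (nat_lit 7)), ([nat_lit 4, nat_lit 6, nat_lit 4, nat_lit 6, nat_lit 4, nat_lit 6, nat_lit 4, nat_lit 6, nat_lit 4, nat_lit 6], (nat_lit 7)), ([nat_lit 5, nat_lit 6, nat_lit 5, nat_lit 6, nat_lit 5, nat_lit 6, nat_lit 5, nat_lit 6], (nat_lit 7)), ([nat_lit 6, nat_lit 2, nat_lit 4, nat_lit 5, nat_lit 6, nat_lit 1, nat_lit 2, nat_lit 4, nat_lit 5, nat_lit 1], (nat_lit 7)), ([nat_lit 6, nat_lit 4, nat_lit 6, nat_lit 3, nat_lit 4, nat_lit 6, nat_lit 4, nat_lit 2], (nat_lit 7)), ([nat_lit 0, nat_lit 0], (nat_lit 7)), ([nat_lit 1, nat_lit 1], (nat_lit 7)), ([nat_lit 2, nat_lit 3], (nat_lit 7)), ([nat_lit 3, nat_lit 2], (nat_lit 7)), ([nat_lit 4, nat_lit 4], (nat_lit 7)), ([nat_lit 5, nat_lit 5], (nat_lit 7)), ([nat_lit 6, nat_lit 6], (nat_lit 7))]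
theorem lm : Lm ix (kel 2) 2 2 4 M C 8 := ⟨by decide +kernel, by decide +kernel, by decide +kernel, by decide +kernel⟩
theorem hw : allE (fun w => Nat.add (Nat.add (lettE 7 w.1) (Nat.add (ltE w.2 8) (Nat.sub 7 w.2))) (eqL 2 2 4 8 C w.1 [w.2])) ws = 0 := by decide +kernel
theorem pq : Pr al inv rels 7 := ⟨simple, ctr, top, ub, iv, rl, by decide +kernel⟩
theorem iso {F : Type*} [Field F] [Fintype F] (hF : Fintype.card F = 4) : Nonempty (P ≃* Matrix.symplecticGroup (Fin 2) F) := by
  obtain ⟨f⟩ := exK (K := K4) rfl hF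
  refine iso_quot (lm.emb f pq (lm.let f (n := nv) (by decide +kernel) fun j hj => mem_sp ((by decide +kernel : ∀ j < 7, M j * Matrix.J (Fin 2) K4 * (M j).transpose = Matrix.J (Fin 2) K4) j hj)) (.inl ⟨0, by decide⟩) (by decide +kernel) hw 0 2 (.inl ⟨1, by decide⟩) (.inl ⟨1, by decide⟩) (by decide +kernel) spU_inj le_sp) card ?_
  rw [Nat.card_congr (Classical.spEquiv 2 F).toEquiv, Classical.card_symp 2 _ (Classical.spForm_nondeg 2) (by simp), Nat.card_eq_fintype_card (α := F), hF]
  norm_num [Finset.prod_range_succ]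

end Cfsg.Agent.Ct.S44
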