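import Cfsg.Agent.Lib.Cert.S44.Tw
import Cfsg.Agent.Lib.Cert.Lin

set_option autoImplicit false
set_option maxRecDepth 100000

namespace Cfsg.Agent.Ct.S44

open Cfsg.Agent.PC

open Cfsg.Agent.Fi Cfsg.Agent.Ct
def Tf_t : TN := (TN.node (TN.leaf (nat_lit 0x240432a34850d726e60e068242b6108f9d8ad4c360e4d2107139d2a7f04a94a60a3160c882c76ea49173211e0b5a064c4190c8cd129a0275ed19bd5071d8f973cf23a06aa3e5cb12ca62840103e7619c8f3904c4328dc89e4a2b2a308b2e7e91e8710e9cb818d97a247118a86b00aac1a794b0325c4be66d25cda6aa95092113864d0568b27185541e055b728452bb786029a06087000cc9bd1146c2c69821ccd90724b12a5e29e5d390aca891b3894a899d44cca421a6471f06c2929510618b30d11878e25396404528c7699a84a6ea84f963e02b5e6892d20f9e3f88f410100f0a2aa2488bf93308388d2104d84113314e382870618c1394e693a2c8d9d38aac64012f46b752a0f1734ed1347c716c16b1e78b5e9219d88c9b0a36207ae60652d03f2d0d49c556020200a3d75468113d215cb951a6a992ba24044b61be7f4d625a4e5c2416187333a986af8b05e4c351d40762edb97847ce219cc900f54649a30656a18253c81b68c063614144276a2421604040166aee8d01e7e30d972a4493934bc44501fc282b4332a495cb816929b166f1a2b5e8df1d604d0281239d365d0cf299c856472260c9a8b50a835448d909e9a60c6e293880af43842808080))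 (TN.leaf (nat_lit 0xf08a0a255ece9ab840a93212c656e5a268239fbe9f5149c88bc99a370d996445dc4c5a5228b76a13c28e606b14348f9e06e9ab60891832a0b1b8ca600340464954a132c38f0a64e82)))
noncomputable def Tf (i : ℕ) : ℕ := get9 Tf_t (nat_lit 7) (nat_lit 127) i
noncomputable def T (j c : ℕ) : ℕ := Tf (Nat.add (Nat.mul j (nat_lit 85)) c)
noncomputable def p0 : ℕ → ℕ := permE T inv (nat_lit 85) (nat_lit 7)
theorem pp0 : Nat.beq (rng p0 (nat_lit 0) (nat_lit 85)) (nat_lit 0) = true := by decide +kernel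
theorem hp : ∀ i < 85, p0 i = 0 := by
  have h := zero_lt_zero p0
  have h := zero_lt_add (a := (nat_lit 0)) (n := (nat_lit 85)) (b := (nat_lit 85)) h pp0 rfl
  exact h
abbrev pt : ℕ → Fin 85 := (finLab 84).pt
noncomputable def pf : ℕ → Equiv.Perm (Fin 85) := (finLab 84).fam T inv
theorem pr : Reps pt 85 pf T 7 ∧ InvOK pf inv 7 := (finLab 84).reps_fam (by decide +kernel) hp
noncomputable def x1 : ℕ → ℕ := relF T rels
theorem yy0 : Nat.beq (rng x1 (nat_lit 0) (nat_lit 85)) (nat_lit 0) = true := by decide +kernel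
theorem hy : ∀ i < 85, x1 i = 0 := by
  have h := zero_lt_zero x1
  have h := zero_lt_add (a := (nat_lit 0)) (n := (nat_lit 85)) (b := (nat_lit 85)) h yy0 rfl
  exact h
theorem rl0 : ∀ w ∈ rels, ev pf w = 1 := rel_of_tab (finLab 84).surj pr.1 (by decide +kernel) hy
abbrev P : Type := ↥(gen pf 7)
noncomputable def al : ℕ → P := PC.sub (gen pf 7) pf
theorem rp : Reps pt 85 al T 7 := (pr.1.mono (by decide)).sub le_rfl
theorem top : gen al 7 = ⊤ := gen_sub_top rfl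
def W0_t : TL := (TL.node (TL.node (TL.node (TL.leaf [nat_lit 4, nat_lit 5, nat_lit 0, nat_lit 1, nat_lit 5, nat_lit 4]) (TL.leaf [nat_lit 6, nat_lit 5, nat_lit 6, nat_lit 4, nat_lit 0, nat_lit 5, nat_lit 3, nat_lit 1, nat_lit 6, nat_lit 4, nat_lit 0, nat_lit 2, nat_lit 4])) (TL.leaf [nat_lit 3, nat_lit 5, nat_lit 0, nat_lit 6, nat_lit 4, nat_lit 0, nat_lit 5, nat_lit 1, nat_lit 4, nat_lit 1, nat_lit 5])) (TL.node (TL.leaf [nat_lit 4, nat_lit 5, nat_lit 1, nat_lit 5, nat_lit 4]) (TL.leaf [nat_lit 0, nat_lit 6, nat_lit 2, nat_lit 5, nat_lit 2, nat_lit 1, nat_lit 4, nat_lit 2, nat_lit 1, nat_lit 6])))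
noncomputable def W0 (i : ℕ) : List ℕ := TL.get W0_t i
def Q0f_t : TN := (TN.leaf (nat_lit 0x2094120033e9c5313465d21a05a2cd47314a25b127b9902cacb7f1d52e1a9210e120699d5046934794593586ccdd426424ce0015b8c56e0e4130ed2be28c133d10797ac6c1e30f0c08b92645ded02cfc0953cc5dd28a1e30c3e394c17cd104998d69ad729c94a9ed909d611e6b8304d1240c68a28848c454803de4b0099b8d14ea8ae361599c2110104902d64e54bd2ab320e189223c88c509a7a70aec7349d217bf16c5d139aa4f3e64f04046108a926aa99964069198126ce4a200a4a5a12e3b643116c6a628a398a0293d1ab1c223b003246e5ccab3f303d4830c1d102b8d530c7d5cc9ca27cb6b224928c549b83104b330ab9b2374de1b979297bf1cc58347a842505436682483133b44b47d10e74e0aa8521178114cc48e4482064a528b362441ea4f96034e04038a715f0f8f3a49296ee6a89f1a94034520c43d452af94e875464d11b60edd8b078313a640a85485ab1e846a8812b0afce9c1b0cc192e4c3422d30890a0e4dae16a44886654fa40684080))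
noncomputable def Q0f (i : ℕ) : ℕ := get9 Q0f_t (nat_lit 7) (nat_lit 127) i
noncomputable def Q0 (j c : ℕ) : ℕ := Q0f (Nat.add (Nat.mul j (nat_lit 85)) c)
noncomputable def q0 (j : ℕ) : P := ev al (W0 j)
noncomputable def c0 : ℕ → ℕ := tabE T Q0 W0 (nat_lit 5)
theorem cc0 : Nat.beq (rng c0 (nat_lit 0) (nat_lit 85)) (nat_lit 0) = true := by decide +kernel
theorem hc : ∀ i < 85, c0 i = 0 := by
  have h := zero_lt_zero c0
  have h := zero_lt_add (a := (nat_lit 0)) (n := (nat_lit 85)) (b := (nat_lit 85)) h cc0 rfl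
  exact h
def CV0_t : TN := (TN.leaf (nat_lit 0x1a8a44cc62b8a0ae9b2c5248e3929aa1ad8620862b20a9c8218e28aa6e0aa146482385a4a06a28d96e9aa28e1ae471b82a8d97244238d9c9a8ac8db6dc05a923))
noncomputable def CV0 (i : ℕ) : ℕ := get9 CV0_t (nat_lit 6) (nat_lit 63) i
def CV1_t : TN := (TN.leaf (nat_lit 0x33ce3a6b00b600c80499000a2bcf28a90316c003b8eb8c000002beb20216b0cc0c606aa831000872880ef3c2acf2aa2af9a00ef2ce8aa3eb94c002ba3a02106a))
noncomputable def CV1 (i : ℕ) : ℕ := get9 CV1_t (nat_lit 6) (nat_lit 63) i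
def CV2_t : TN := (TN.leaf (nat_lit 0x20022032000000e800000008a9851029000640032e5ac8000002aeb201202ae80c0002a8710000320000328a840aaa2a59880032cb1a186a900002902a000001))
noncomputable def CV2 (i : ℕ) : ℕ := get9 CV2_t (nat_lit 6) (nat_lit 63) i
def CV3_t : TN := (TN.leaf (nat_lit 0x2200000048000001000000000000000000000000000000000000000400))
noncomputable def CV3 (i : ℕ) : ℕ := get9 CV3_t (nat_lit 5) (nat_lit 31) i
noncomputable def l0 : Lev := ⟨(nat_lit 3), (nat_lit 85), (nat_lit 4), CV0⟩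
noncomputable def lt : List Lev := [⟨(nat_lit 1), (nat_lit 64), (nat_lit 3), CV1⟩, ⟨(nat_lit 0), (nat_lit 45), (nat_lit 2), CV2⟩, ⟨(nat_lit 2), (nat_lit 4), (nat_lit 0), CV3⟩]
theorem ch : Ch pt 85 q0 Q0 5 8 (l0 :: lt) :=
  ⟨(finLab 84).inj, reps_tabs (rp) (by decide +kernel) hc, by decide +kernel, cardLE_sub (ub7 pr.2 rl0)⟩
def SO_t : TN := (TN.leaf (nat_lit 0x3ffbeefafffbebfeabfbfefffafefffffeffffebf7f))
noncomputable def SO (i : ℕ) : ℕ := get9 SO_t (nat_lit 2) (nat_lit 3) i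
def SV_t : TN := (TN.leaf (nat_lit 0x206a28d94328d3aa1aeb2da8a9851aaa42165b662a5a89a6192288b24d28d34ab82ba1885b4a3a5880988b8ab40aae26d98934f28628d869ba9a0606db06bcc1))
noncomputable def SV (i : ℕ) : ℕ := get9 SV_t (nat_lit 6) (nat_lit 63) i
def rt (i : ℕ) : ℕ := Nat.land (Nat.shiftRight (nat_lit 472) (Nat.mul (nat_lit 3) i)) (nat_lit 7)
def sz (i : ℕ) : ℕ := Nat.land (Nat.shiftRight (nat_lit 0x8050080) (Nat.mul (nat_lit 7) i)) (nat_lit 127)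
noncomputable def s0 : ℕ → ℕ := soE Q0 (nat_lit 4) (nat_lit 85) (nat_lit 8) (nat_lit 3) SV SO rt
theorem ss0 : Nat.beq (rng s0 (nat_lit 0) (nat_lit 85)) (nat_lit 0) = true := by decide +kernel
theorem hs : ∀ i < 85, s0 i = 0 := by
  have h := zero_lt_zero s0
  have h := zero_lt_add (a := (nat_lit 0)) (n := (nat_lit 85)) (b := (nat_lit 85)) h ss0 rfl
  exact h
theorem hsz : ∀ i ≤ 3, 1 ≤ i → cnt SO i 85 = sz i := by decide +kernel
theorem coatom : IsCoatom (MulAction.stabilizer P (pt 3)) :=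
  ch.coatom (by decide +kernel) hs sz hsz (k0 := 1) (by decide +kernel) (by decide +kernel)
def B0 : List ℕ := [nat_lit 3, nat_lit 1, nat_lit 0, nat_lit 2]
theorem md0 : Md pt 85 B0 al T 7 := ch.md (rp) rfl
theorem card : Nat.card P = 979200 := ch.card
instance : Finite P := ch.fin
def W1_t : TL := (TL.node (TL.node (TL.node (TL.node (TL.leaf [nat_lit 0]) (TL.leaf [nat_lit 0, nat_lit 5, nat_lit 2, nat_lit 6, nat_lit 3, nat_lit 5, nat_lit 6, nat_lit 3, nat_lit 5, nat_lit 1, nat_lit 6, nat_lit 5, nat_lit 3])) (TL.leaf [nat_lit 4])) (TL.node (TL.leaf [nat_lit 2]) (TL.leaf [nat_lit 6]))) (TL.node (TL.node (TL.leaf [nat_lit 1]) (TL.leaf [nat_lit 5])) (TL.node (TL.leaf [nat_lit 3]) (TL.leaf [nat_lit 3, nat_lit 6, nat_lit 2, nat_lit 4, nat_lit 6, nat_lit 5, nat_lit 1, nat_lit 4, nat_lit 3, nat_lit 0, nat_lit 5, nat_lit 4]))))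
noncomputable def W1 (i : ℕ) : List ℕ := TL.get W1_t i
def Q1f_t : TN := (TN.node (TN.leaf (nat_lit 0x240432a34850d726e60e068242b6108f9d8ad4c360e4d2107139d2a7f04a94a60a3160c882c76ea49173211e0b5a064c4190c8cd129a0275ed19bd5071d8f973cf23a06aa3e5cb12ca62840103e7619c8f3904c4328dc89e4a2b2a308b2e7e91e8710e9cb818d97a247118a86b00aac1a794b0325c4be66d25cda6aa95092113864d0568b27185541e055b728452bb786029a06087000cc9bd1146c2c69821ccd90724b12a5e29e5d390aca891b3894a899d44cca421a6471f06c2929510618b30d11878e25396404528c7699a84a6ea84f963e02b5e6892d20f9e3f88f410100f0a2aa2488bf93308388d2104d84113314e382870618c1394e693a2c8d9d38aac64012f46b752a0f1734ed1347c716c16b1e78b5e9219d88c9b0a36207ae60652d03f2d0d49c556020200a3d75468113d215cb951a6a992ba24044b61be7f4d625a4e5c2416187333a986af8b05e4c351d40762edb97847ce219cc900f54649a30656a18253c81b68c063614144276a2421604040166aee8d01e7e30d972a4493934bc44501fc282b4332a495cb816929b166f1a2b5e8df1d604d0281239d365d0cf299c856472260c9a8b50a835448d909e9a60c6e293880af43842808080))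 (TN.leaf (nat_lit 0x2fa30063a006d8c10c8c8893aa8a4d9890754303c25078a5db58eb092d50cc6835cac39916ca7109e590c37ef9a1c4e4dca296792a06f12482845c45202d983d3f4c2c534e13481528ac65a457b9810dd422505289154d2319e329512e58ed446a8f26061270236c23144465f0f761e5a86a200cc308242e0d24aca7add5b32711c4d387c2a78a0163620345c778fd934523909aa0f08a0a255ece9ab840a93212c656e5a268239fbe9f5149c88bc99a370d996445dc4c5a5228b76a13c28e606b14348f9e06e9ab60891832a0b1b8ca600340464954a132c38f0a64e82)))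
noncomputable def Q1f (i : ℕ) : ℕ := get9 Q1f_t (nat_lit 7) (nat_lit 127) i
noncomputable def Q1 (j c : ℕ) : ℕ := Q1f (Nat.add (Nat.mul j (nat_lit 85)) c)
def V1_t : TL := (TL.node (TL.node (TL.node (TL.leaf [nat_lit 8, nat_lit 8, nat_lit 8, nat_lit 8, nat_lit 8, nat_lit 8, nat_lit 8, nat_lit 8, nat_lit 8, nat_lit 8, nat_lit 8, nat_lit 8, nat_lit 8, nat_lit 8, nat_lit 8, nat_lit 8, nat_lit 8, nat_lit 8, nat_lit 8, nat_lit 8, nat_lit 8, nat_lit 8, nat_lit 8, nat_lit 8, nat_lit 8, nat_lit 8, nat_lit 8, nat_lit 8, nat_lit 8, nat_lit 8, nat_lit 8, nat_lit 8, nat_lit 7, nat_lit 7, nat_lit 7, nat_lit 7, nat_lit 7, nat_lit 7, nat_lit 7, nat_lit 7, nat_lit 7, nat_lit 7, nat_lit 7, nat_lit 7, nat_lit 7, nat_lit 7, nat_lit 7, nat_lit 7, nat_lit 7, nat_lit 7, nat_lit 7, nat_lit 7, nat_lit 7, nat_lit 7, nat_lit 7, nat_lit 7, nat_lit 7, nat_lit 7, nat_lit 7, nat_lit 7, nat_lit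 7, nat_lit 7, nat_lit 7, nat_lit 7, nat_lit 8, nat_lit 8, nat_lit 8, nat_lit 8, nat_lit 8, nat_lit 8, nat_lit 8, nat_lit 8, nat_lit 8, nat_lit 8, nat_lit 8, nat_lit 8, nat_lit 8, nat_lit 8, nat_lit 8, nat_lit 8, nat_lit 8, nat_lit 8, nat_lit 8, nat_lit 8, nat_lit 8, nat_lit 8, nat_lit 8, nat_lit 8, nat_lit 8, nat_lit 8, nat_lit 8, nat_lit 8, nat_lit 8, nat_lit 8, nat_lit 8, nat_lit 8, nat_lit 8, nat_lit 8, nat_lit 8, nat_lit 8, nat_lit 8, nat_lit 8, nat_lit 8, nat_lit 8, nat_lit 8, nat_lit 8, nat_lit 8, nat_lit 8, nat_lit 8, nat_lit 8, nat_lit 8, nat_lit 8, nat_lit 7, nat_lit 7, nat_lit 7, nat_lit 7, nat_lit 7, nat_lit 7, nat_lit 7, nat_lit 7, nat_lit 7, nat_lit 7, nat_lit 7, nat_lit 7, nat_lit 7, nat_lit 7, nat_lit 7, nat_lit 7, nat_lit 7, nat_lit 7, nat_lit 7, nat_lit 7, nat_lit 7, nat_lit 7, nat_lit 7, nat_lit 7, nat_lit 7, nat_lit 7, nat_lit 7, nat_lit 7,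 nat_lit 7, nat_lit 7, nat_lit 7, nat_lit 7, nat_lit 8, nat_lit 8, nat_lit 8, nat_lit 8, nat_lit 8, nat_lit 8, nat_lit 8, nat_lit 8, nat_lit 8, nat_lit 8, nat_lit 8, nat_lit 8, nat_lit 8, nat_lit 8, nat_lit 8, nat_lit 8, nat_lit 7, nat_lit 7, nat_lit 7, nat_lit 8, nat_lit 7, nat_lit 8, nat_lit 8, nat_lit 8, nat_lit 8, nat_lit 8, nat_lit 8, nat_lit 8, nat_lit 8, nat_lit 8, nat_lit 8, nat_lit 8, nat_lit 8, nat_lit 8, nat_lit 8, nat_lit 8, nat_lit 8, nat_lit 8, nat_lit 8, nat_lit 8, nat_lit 8, nat_lit 8, nat_lit 8, nat_lit 8, nat_lit 8, nat_lit 8, nat_lit 8, nat_lit 8, nat_lit 8, nat_lit 8, nat_lit 8, nat_lit 8, nat_lit 8, nat_lit 8, nat_lit 8, nat_lit 8, nat_lit 8, nat_lit 8, nat_lit 8, nat_lit 8, nat_lit 8, nat_lit 8, nat_lit 8, nat_lit 8, nat_lit 8, nat_lit 8, nat_lit 8, nat_lit 8, nat_lit 8]) (TL.leaf [nat_lit 8, nat_lit 7, nat_lit 7, nat_lit 7, nat_lit 7, nat_lit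 7, nat_lit 7, nat_lit 7, nat_lit 7, nat_lit 7, nat_lit 7, nat_lit 7, nat_lit 7, nat_lit 7, nat_lit 7, nat_lit 7, nat_lit 7, nat_lit 8, nat_lit 7, nat_lit 7, nat_lit 8, nat_lit 8, nat_lit 8, nat_lit 8, nat_lit 8, nat_lit 8, nat_lit 8, nat_lit 8, nat_lit 8, nat_lit 8, nat_lit 8, nat_lit 8, nat_lit 8, nat_lit 8, nat_lit 8, nat_lit 8, nat_lit 8, nat_lit 8, nat_lit 8, nat_lit 8, nat_lit 8, nat_lit 8, nat_lit 8, nat_lit 8, nat_lit 8, nat_lit 8, nat_lit 8, nat_lit 8, nat_lit 8, nat_lit 8, nat_lit 8, nat_lit 8, nat_lit 7, nat_lit 7, nat_lit 7, nat_lit 7, nat_lit 7, nat_lit 7, nat_lit 7, nat_lit 7, nat_lit 7, nat_lit 7, nat_lit 7, nat_lit 7, nat_lit 7, nat_lit 7, nat_lit 7, nat_lit 7, nat_lit 8, nat_lit 7, nat_lit 7, nat_lit 7, nat_lit 7, nat_lit 7, nat_lit 7, nat_lit 7, nat_lit 7, nat_lit 7, nat_lit 7, nat_lit 7, nat_lit 7, nat_lit 7, nat_lit 7, nat_lit 7, nat_lit 7,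 nat_lit 8, nat_lit 8, nat_lit 8, nat_lit 8, nat_lit 8, nat_lit 8, nat_lit 8, nat_lit 8, nat_lit 8, nat_lit 8, nat_lit 8, nat_lit 8, nat_lit 8, nat_lit 8, nat_lit 8, nat_lit 8, nat_lit 7, nat_lit 7, nat_lit 7, nat_lit 7, nat_lit 7, nat_lit 7, nat_lit 7, nat_lit 7, nat_lit 7, nat_lit 7, nat_lit 7, nat_lit 7, nat_lit 7, nat_lit 7, nat_lit 7, nat_lit 7, nat_lit 8, nat_lit 8, nat_lit 8, nat_lit 8, nat_lit 8, nat_lit 8, nat_lit 8, nat_lit 8, nat_lit 8, nat_lit 8, nat_lit 8, nat_lit 8, nat_lit 8, nat_lit 8, nat_lit 8, nat_lit 8, nat_lit 7, nat_lit 7, nat_lit 7, nat_lit 7, nat_lit 7, nat_lit 7, nat_lit 7, nat_lit 7, nat_lit 7, nat_lit 7, nat_lit 7, nat_lit 7, nat_lit 7, nat_lit 7, nat_lit 7, nat_lit 7, nat_lit 7, nat_lit 7, nat_lit 7, nat_lit 7, nat_lit 7, nat_lit 7, nat_lit 7, nat_lit 7, nat_lit 7, nat_lit 7, nat_lit 7, nat_lit 7, nat_lit 7, nat_lit 7, nat_lit 7, nat_lit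 7])) (TL.node (TL.leaf [nat_lit 8, nat_lit 8, nat_lit 8, nat_lit 8, nat_lit 8, nat_lit 8, nat_lit 8, nat_lit 8, nat_lit 8, nat_lit 8, nat_lit 8, nat_lit 8, nat_lit 8, nat_lit 8, nat_lit 8, nat_lit 8, nat_lit 7, nat_lit 7, nat_lit 7, nat_lit 7, nat_lit 7, nat_lit 7, nat_lit 7, nat_lit 7, nat_lit 7, nat_lit 7, nat_lit 7, nat_lit 7, nat_lit 7, nat_lit 7, nat_lit 7, nat_lit 7, nat_lit 8, nat_lit 8, nat_lit 8, nat_lit 8, nat_lit 8, nat_lit 8, nat_lit 8, nat_lit 8, nat_lit 8, nat_lit 8, nat_lit 8, nat_lit 8, nat_lit 8, nat_lit 8, nat_lit 8, nat_lit 8, nat_lit 7, nat_lit 7, nat_lit 7, nat_lit 7, nat_lit 7, nat_lit 7, nat_lit 7, nat_lit 7, nat_lit 7, nat_lit 7, nat_lit 7, nat_lit 7, nat_lit 7, nat_lit 7, nat_lit 7, nat_lit 7, nat_lit 8, nat_lit 8, nat_lit 8, nat_lit 7, nat_lit 7, nat_lit 7, nat_lit 7, nat_lit 7, nat_lit 7, nat_lit 7, nat_lit 7, nat_lit 7, nat_lit 7, nat_lit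 7, nat_lit 7, nat_lit 7, nat_lit 7, nat_lit 7, nat_lit 7, nat_lit 8, nat_lit 8, nat_lit 7, nat_lit 7, nat_lit 7, nat_lit 7, nat_lit 7, nat_lit 7, nat_lit 7, nat_lit 7, nat_lit 7, nat_lit 7, nat_lit 7, nat_lit 7, nat_lit 7, nat_lit 7, nat_lit 7, nat_lit 7, nat_lit 8, nat_lit 8, nat_lit 8, nat_lit 8, nat_lit 8, nat_lit 8, nat_lit 8, nat_lit 8, nat_lit 8, nat_lit 8, nat_lit 8, nat_lit 8, nat_lit 8, nat_lit 8, nat_lit 8, nat_lit 8, nat_lit 7, nat_lit 7, nat_lit 7, nat_lit 7, nat_lit 7, nat_lit 7, nat_lit 7, nat_lit 7, nat_lit 7, nat_lit 7, nat_lit 7, nat_lit 7, nat_lit 7, nat_lit 7, nat_lit 7, nat_lit 7, nat_lit 8, nat_lit 8, nat_lit 7, nat_lit 7, nat_lit 7, nat_lit 7, nat_lit 7, nat_lit 7, nat_lit 7, nat_lit 7, nat_lit 7, nat_lit 7, nat_lit 7, nat_lit 7, nat_lit 7, nat_lit 7, nat_lit 7, nat_lit 7, nat_lit 8, nat_lit 8, nat_lit 8, nat_lit 8, nat_lit 8, nat_lit 8,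 nat_lit 8, nat_lit 8, nat_lit 8, nat_lit 8, nat_lit 8, nat_lit 8, nat_lit 8, nat_lit 8, nat_lit 8, nat_lit 8, nat_lit 7, nat_lit 7, nat_lit 7, nat_lit 7, nat_lit 7, nat_lit 7, nat_lit 7, nat_lit 7, nat_lit 7, nat_lit 7, nat_lit 7, nat_lit 7, nat_lit 7, nat_lit 7, nat_lit 7, nat_lit 7, nat_lit 8, nat_lit 7]) (TL.leaf [nat_lit 7, nat_lit 7, nat_lit 7, nat_lit 7, nat_lit 7, nat_lit 7, nat_lit 7, nat_lit 7, nat_lit 7, nat_lit 7, nat_lit 7, nat_lit 7, nat_lit 7, nat_lit 7, nat_lit 7, nat_lit 7, nat_lit 8, nat_lit 8, nat_lit 8, nat_lit 7, nat_lit 8, nat_lit 8, nat_lit 8, nat_lit 8, nat_lit 8, nat_lit 8, nat_lit 8, nat_lit 8, nat_lit 8, nat_lit 8, nat_lit 8, nat_lit 8, nat_lit 8, nat_lit 8, nat_lit 8, nat_lit 8, nat_lit 7, nat_lit 8, nat_lit 8, nat_lit 8, nat_lit 8, nat_lit 8, nat_lit 8, nat_lit 8, nat_lit 8, nat_lit 8, nat_lit 8, nat_lit 8, nat_lit 8, nat_lit 8, nat_lit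 8, nat_lit 8, nat_lit 8, nat_lit 8, nat_lit 8, nat_lit 8, nat_lit 8, nat_lit 8, nat_lit 8, nat_lit 8, nat_lit 8, nat_lit 8, nat_lit 8, nat_lit 8, nat_lit 8, nat_lit 8, nat_lit 8, nat_lit 8, nat_lit 8, nat_lit 7, nat_lit 8, nat_lit 8, nat_lit 7, nat_lit 7, nat_lit 7, nat_lit 7, nat_lit 7, nat_lit 7, nat_lit 7, nat_lit 7, nat_lit 7, nat_lit 7, nat_lit 7, nat_lit 7, nat_lit 7, nat_lit 7, nat_lit 7, nat_lit 7, nat_lit 8, nat_lit 8, nat_lit 8, nat_lit 7, nat_lit 7, nat_lit 7, nat_lit 7, nat_lit 7, nat_lit 7, nat_lit 7, nat_lit 7, nat_lit 7, nat_lit 7, nat_lit 7, nat_lit 7, nat_lit 7, nat_lit 7, nat_lit 7, nat_lit 7, nat_lit 8, nat_lit 7, nat_lit 8]))) (TL.node (TL.node (TL.leaf [nat_lit 7, nat_lit 8, nat_lit 8, nat_lit 7, nat_lit 7, nat_lit 7, nat_lit 8, nat_lit 8, nat_lit 7, nat_lit 8, nat_lit 7, nat_lit 7, nat_lit 7, nat_lit 7, nat_lit 7, nat_lit 7, nat_lit 7, nat_lit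 7, nat_lit 7, nat_lit 7, nat_lit 7, nat_lit 7, nat_lit 7, nat_lit 7, nat_lit 7, nat_lit 7, nat_lit 7, nat_lit 7, nat_lit 7, nat_lit 7, nat_lit 7, nat_lit 7, nat_lit 7, nat_lit 7, nat_lit 7, nat_lit 7, nat_lit 7, nat_lit 7, nat_lit 7, nat_lit 7, nat_lit 7, nat_lit 7, nat_lit 7, nat_lit 7, nat_lit 7, nat_lit 7, nat_lit 7, nat_lit 7, nat_lit 7, nat_lit 7, nat_lit 7, nat_lit 7, nat_lit 7, nat_lit 7, nat_lit 7, nat_lit 7, nat_lit 7, nat_lit 7, nat_lit 8, nat_lit 8, nat_lit 8, nat_lit 8, nat_lit 8, nat_lit 8, nat_lit 8, nat_lit 8, nat_lit 8, nat_lit 8, nat_lit 8, nat_lit 8, nat_lit 8, nat_lit 8, nat_lit 8, nat_lit 8, nat_lit 7, nat_lit 7, nat_lit 7, nat_lit 7, nat_lit 7, nat_lit 7, nat_lit 7, nat_lit 7, nat_lit 7, nat_lit 7, nat_lit 7, nat_lit 7, nat_lit 7, nat_lit 7, nat_lit 7, nat_lit 7, nat_lit 7, nat_lit 7, nat_lit 7, nat_lit 7, nat_lit 7, nat_lit 7, nat_lit 7,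 nat_lit 7, nat_lit 7, nat_lit 7, nat_lit 7, nat_lit 7, nat_lit 7, nat_lit 7, nat_lit 7, nat_lit 7, nat_lit 7, nat_lit 7, nat_lit 7, nat_lit 7, nat_lit 7, nat_lit 7, nat_lit 7, nat_lit 7, nat_lit 7, nat_lit 7, nat_lit 7, nat_lit 7, nat_lit 7, nat_lit 7, nat_lit 7, nat_lit 7, nat_lit 8, nat_lit 7, nat_lit 7, nat_lit 7, nat_lit 7, nat_lit 7, nat_lit 7, nat_lit 7, nat_lit 7, nat_lit 7, nat_lit 7, nat_lit 7, nat_lit 7, nat_lit 7, nat_lit 7, nat_lit 7, nat_lit 7, nat_lit 8, nat_lit 8, nat_lit 8, nat_lit 8, nat_lit 8, nat_lit 8, nat_lit 8, nat_lit 8, nat_lit 8, nat_lit 8, nat_lit 8, nat_lit 8, nat_lit 8, nat_lit 8, nat_lit 8, nat_lit 8, nat_lit 8, nat_lit 8, nat_lit 8, nat_lit 8, nat_lit 8, nat_lit 8, nat_lit 8, nat_lit 8, nat_lit 8, nat_lit 8, nat_lit 8, nat_lit 8, nat_lit 8, nat_lit 8, nat_lit 8, nat_lit 8, nat_lit 7, nat_lit 7, nat_lit 7, nat_lit 7, nat_lit 7, nat_lit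 7, nat_lit 7, nat_lit 7, nat_lit 7, nat_lit 7, nat_lit 7, nat_lit 7, nat_lit 7, nat_lit 7, nat_lit 7, nat_lit 7, nat_lit 8]) (TL.leaf [nat_lit 8, nat_lit 7, nat_lit 7, nat_lit 7, nat_lit 7, nat_lit 7, nat_lit 7, nat_lit 7, nat_lit 7, nat_lit 7, nat_lit 7, nat_lit 7, nat_lit 7, nat_lit 7, nat_lit 7, nat_lit 7, nat_lit 7, nat_lit 7, nat_lit 7, nat_lit 7, nat_lit 7, nat_lit 7, nat_lit 7, nat_lit 7, nat_lit 7, nat_lit 7, nat_lit 7, nat_lit 7, nat_lit 7, nat_lit 7, nat_lit 7, nat_lit 7, nat_lit 7, nat_lit 7, nat_lit 7, nat_lit 7, nat_lit 7, nat_lit 7, nat_lit 7, nat_lit 7, nat_lit 7, nat_lit 7, nat_lit 7, nat_lit 7, nat_lit 7, nat_lit 7, nat_lit 7, nat_lit 7, nat_lit 7, nat_lit 8, nat_lit 7, nat_lit 8, nat_lit 7, nat_lit 7, nat_lit 7, nat_lit 7, nat_lit 7, nat_lit 7, nat_lit 7, nat_lit 7, nat_lit 7, nat_lit 7, nat_lit 7, nat_lit 7, nat_lit 7, nat_lit 7, nat_lit 7,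 nat_lit 7, nat_lit 8, nat_lit 8, nat_lit 7, nat_lit 7, nat_lit 7, nat_lit 7, nat_lit 7, nat_lit 7, nat_lit 7, nat_lit 7, nat_lit 7, nat_lit 7, nat_lit 7, nat_lit 7, nat_lit 7, nat_lit 7, nat_lit 7, nat_lit 7, nat_lit 7, nat_lit 7, nat_lit 7, nat_lit 7, nat_lit 7, nat_lit 7, nat_lit 7, nat_lit 7, nat_lit 7, nat_lit 7, nat_lit 7, nat_lit 7, nat_lit 7, nat_lit 7, nat_lit 7, nat_lit 7, nat_lit 8, nat_lit 8, nat_lit 8, nat_lit 8, nat_lit 8, nat_lit 8, nat_lit 8, nat_lit 8, nat_lit 8, nat_lit 8, nat_lit 8, nat_lit 8, nat_lit 8, nat_lit 8, nat_lit 8, nat_lit 8, nat_lit 7, nat_lit 8, nat_lit 8, nat_lit 7, nat_lit 7, nat_lit 8, nat_lit 7])) (TL.leaf [nat_lit 7, nat_lit 7, nat_lit 7, nat_lit 7, nat_lit 7, nat_lit 7, nat_lit 7, nat_lit 7, nat_lit 7, nat_lit 7, nat_lit 7, nat_lit 7, nat_lit 7, nat_lit 7, nat_lit 7, nat_lit 7, nat_lit 8, nat_lit 8, nat_lit 8, nat_lit 8, nat_lit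 8, nat_lit 8, nat_lit 8, nat_lit 8, nat_lit 8, nat_lit 8, nat_lit 8, nat_lit 8, nat_lit 8, nat_lit 8, nat_lit 8, nat_lit 8, nat_lit 7, nat_lit 8, nat_lit 7, nat_lit 8, nat_lit 7, nat_lit 7, nat_lit 7, nat_lit 7, nat_lit 7, nat_lit 7, nat_lit 7, nat_lit 7, nat_lit 7, nat_lit 7, nat_lit 7, nat_lit 7, nat_lit 7, nat_lit 7, nat_lit 7, nat_lit 7, nat_lit 8, nat_lit 8, nat_lit 8, nat_lit 8, nat_lit 8, nat_lit 8, nat_lit 8, nat_lit 8, nat_lit 8, nat_lit 8, nat_lit 8, nat_lit 8, nat_lit 8, nat_lit 8, nat_lit 8, nat_lit 8, nat_lit 8, nat_lit 8, nat_lit 8, nat_lit 8, nat_lit 8, nat_lit 8, nat_lit 8, nat_lit 8, nat_lit 8, nat_lit 8, nat_lit 8, nat_lit 8, nat_lit 8, nat_lit 8, nat_lit 8, nat_lit 8, nat_lit 7, nat_lit 7, nat_lit 7, nat_lit 7, nat_lit 7, nat_lit 7, nat_lit 7, nat_lit 7, nat_lit 7, nat_lit 7, nat_lit 7, nat_lit 7, nat_lit 7, nat_lit 7, nat_lit 7, nat_lit 7,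 nat_lit 7, nat_lit 7, nat_lit 7, nat_lit 7, nat_lit 7, nat_lit 7, nat_lit 7, nat_lit 7, nat_lit 7, nat_lit 7, nat_lit 7, nat_lit 7, nat_lit 7, nat_lit 7, nat_lit 7, nat_lit 7, nat_lit 7, nat_lit 7, nat_lit 7, nat_lit 7, nat_lit 7, nat_lit 7, nat_lit 7, nat_lit 7, nat_lit 7, nat_lit 7, nat_lit 7, nat_lit 7, nat_lit 7, nat_lit 7, nat_lit 7, nat_lit 7, nat_lit 7, nat_lit 7, nat_lit 7, nat_lit 7, nat_lit 7, nat_lit 7, nat_lit 7, nat_lit 7, nat_lit 7, nat_lit 7, nat_lit 7, nat_lit 7, nat_lit 7, nat_lit 7, nat_lit 7, nat_lit 7, nat_lit 8, nat_lit 7, nat_lit 7, nat_lit 7, nat_lit 7, nat_lit 7, nat_lit 7, nat_lit 7, nat_lit 7, nat_lit 7, nat_lit 7, nat_lit 7, nat_lit 7, nat_lit 7, nat_lit 7, nat_lit 7, nat_lit 7, nat_lit 8, nat_lit 7, nat_lit 8, nat_lit 8, nat_lit 8, nat_lit 8, nat_lit 8, nat_lit 8, nat_lit 8, nat_lit 8, nat_lit 8, nat_lit 8, nat_lit 8, nat_lit 8, nat_lit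 8, nat_lit 8, nat_lit 8, nat_lit 8, nat_lit 7])))
noncomputable def V1 (i : ℕ) : List ℕ := TL.get V1_t i
noncomputable def e1 : ℕ → ℕ := tabE T Q1 W1 (nat_lit 9)
theorem ee0 : Nat.beq (rng e1 (nat_lit 0) (nat_lit 85)) (nat_lit 0) = true := by decide +kernel
theorem he : ∀ i < 85, e1 i = 0 := by
  have h := zero_lt_zero e1
  have h := zero_lt_add (a := (nat_lit 0)) (n := (nat_lit 85)) (b := (nat_lit 85)) h ee0 rfl
  exact h
theorem md1 : Md pt 85 B0 (fun j => ev al (W1 j)) Q1 9 := md0.words (by decide +kernel) he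
instance simple : IsSimpleGroup P := ch.simple rfl coatom (p := 17) (md1.ord le_rfl (a := ([nat_lit 7], 17)) (by decide +kernel)).2.1
  (by decide +kernel) (md0.ncl (top) md1 (x := 7) (y := 8) [nat_lit 1, nat_lit 5, nat_lit 4, nat_lit 2, nat_lit 5, nat_lit 3] V1 (by decide +kernel))
theorem ctr : Subgroup.center P = ⊥ := ctr_bot card (by norm_num) (by decide)
theorem iv : InvOK al inv 7 := pr.2.sub le_rfl
theorem rl : ∀ w ∈ rels, ev al w = 1 := rels_sub (by decide +kernel) rl0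
theorem ub : Ub inv rels 7 (Nat.card P) := fun _ _ _ h1 h2 => card ▸ ub7 h1 h2

end Cfsg.Agent.Ct.S44
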