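import Cfsg.Agent.Lib.Cert.Mod
import Cfsg.Agent.Lib.PermCert.PL

set_option autoImplicit false
set_option maxRecDepth 100000

namespace Cfsg.Agent.Ct.S44

open Cfsg.Agent.PC

open Cfsg.Agent.Fi Cfsg.Agent.Ct
namespace L1
def t0x : TN := (TN.leaf (nat_lit 0x11470670740365963a40220b358335110201))
def t1x : TN := (TN.leaf (nat_lit 0x9091138ab60640457811134720a110205202))
def t2x : TN := (TN.leaf (nat_lit 0x70546b11232911132758a110324208206203))
def t3x : TN := (TN.leaf (nat_lit 0x50a60540811240611169b403110209207204))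
def tt : TN := (TN.node (TN.node (TN.node (TN.node t0x (TN.leaf (nat_lit 0))) (TN.node (TN.leaf (nat_lit 0)) (TN.leaf (nat_lit 0)))) (TN.node (TN.node t2x (TN.leaf (nat_lit 0))) (TN.node (TN.leaf (nat_lit 0)) (TN.leaf (nat_lit 0))))) (TN.node (TN.node (TN.node t1x (TN.leaf (nat_lit 0))) (TN.node (TN.leaf (nat_lit 0)) (TN.leaf (nat_lit 0)))) (TN.node (TN.node t3x (TN.leaf (nat_lit 0))) (TN.node (TN.leaf (nat_lit 0)) (TN.leaf (nat_lit 0))))))
noncomputable def T (j c : ℕ) : ℕ := getL tt (nat_lit 12) (nat_lit 15) j c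
noncomputable def E (j c : ℕ) : ℕ := getL tt (nat_lit 12) (nat_lit 4095) j c
theorem T_eq (j c : ℕ) : T j c = E j c % 16 :=
  getL_mod (a := 4) (b := 12) _ _ (by norm_num) (by norm_num) (by norm_num) (by norm_num) j c
def rels : List (List ℕ) := [[nat_lit 2, nat_lit 2, nat_lit 2], [nat_lit 0, nat_lit 1, nat_lit 0, nat_lit 1], [nat_lit 1, nat_lit 2, nat_lit 1, nat_lit 2, nat_lit 1, nat_lit 2], [nat_lit 2, nat_lit 0, nat_lit 3, nat_lit 1]]
def inv (i : ℕ) : ℕ := Nat.land (Nat.shiftRight (nat_lit 17608) (Nat.mul (nat_lit 3) i)) (nat_lit 7)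
def X_t : TN := (TN.leaf (nat_lit 0))
noncomputable def X (i : ℕ) : ℕ := get9 X_t (nat_lit 1) (nat_lit 1) i
def Jp_t : TN := (TN.leaf (nat_lit 0))
noncomputable def Jp (i : ℕ) : ℕ := get9 Jp_t (nat_lit 1) (nat_lit 1) i
def J_t : TN := (TN.leaf (nat_lit 0))
noncomputable def J (k : ℕ) : ℕ := getV J_t Jp k
def Pa_t : TN := (TN.leaf (nat_lit 0x9023188a2384a138450240d0140000))
noncomputable def Pa (i : ℕ) : ℕ := get9 Pa_t (nat_lit 10) (nat_lit 1023) i
def W_t : TL := (TL.node (TL.node (TL.node (TL.node (TL.leaf [nat_lit 2, nat_lit 2, nat_lit 3, nat_lit 3]) (TL.leaf [nat_lit 2051, nat_lit 1, nat_lit 0, nat_lit 1, nat_lit 0])) (TL.leaf [nat_lit 6149, nat_lit 2, nat_lit 1, nat_lit 2, nat_lit 0])) (TL.node (TL.leaf [nat_lit 6151, nat_lit 1, nat_lit 2, nat_lit 0, nat_lit 3]) (TL.leaf [nat_lit 4098, nat_lit 2, nat_lit 1, nat_lit 3, nat_lit 1, nat_lit 3, nat_lit 1]))) (TL.node (TL.node (TL.leaf [nat_lit 2049,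 nat_lit 0, nat_lit 1, nat_lit 0, nat_lit 1]) (TL.leaf [nat_lit 4097, nat_lit 1, nat_lit 2, nat_lit 1, nat_lit 2, nat_lit 1, nat_lit 2])) (TL.node (TL.leaf [nat_lit 6147, nat_lit 0, nat_lit 3, nat_lit 1, nat_lit 2]) (TL.leaf [nat_lit 1, nat_lit 3, nat_lit 2, nat_lit 2]))))
noncomputable def W (i : ℕ) : List ℕ := TL.get W_t i
def WA_t : TL := (TL.leaf [nat_lit 0])
noncomputable def WA (i : ℕ) : List ℕ := TL.get WA_t i
noncomputable def row : ℕ → ℕ := hRow (nat_lit 11) (nat_lit 4) (nat_lit 0) (nat_lit 16) (nat_lit 16) (nat_lit 256) (nat_lit 256) (nat_lit 256) (nat_lit 0) E X Pa inv (wfun (nat_lit 9) W_t)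
noncomputable def aux : ℕ → ℕ := hAux (nat_lit 12) (nat_lit 4) (nat_lit 16) (nat_lit 256) (nat_lit 256) (nat_lit 2) (nat_lit 2) (nat_lit 256) (nat_lit 0) E X J Pa inv WA_t.get
theorem r0 : Nat.beq (rng row (nat_lit 0) (nat_lit 12)) (nat_lit 0) = true := by decide +kernel
theorem rows : ∀ i < 12, row i = 0 := by
  have h := zero_lt_zero row
  have h := zero_lt_add (a := (nat_lit 0)) (n := (nat_lit 12)) (b := (nat_lit 12)) h r0 rfl
  exact h
theorem auxs : ∀ i < 0, aux i = 0 := by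
  have h := zero_lt_zero aux
  exact h
theorem closes.{u} : ClosesT.{u} inv rels 4 0 12 T :=
  hc_closes (N1 := (nat_lit 11)) rfl T_eq (by decide +kernel) rows auxs
theorem T_inv : ∀ c < 12, ∀ j < 4, T j c < 12 ∧ T (inv j) (T j c) = c := 
  hc_inv (inv := inv) (N1 := (nat_lit 11)) rfl T_eq rows
end L1

namespace L2
def t0x : TN := (TN.leaf (nat_lit 0x2b7a9ba215703b821008c5a61da00c81865931b0844804210))
def t1x : TN := (TN.leaf (nat_lit 0x593ac9b20a10a43b180e80554c8848c9040b1089018806210))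
def t2x : TN := (TN.leaf (nat_lit 0x503941b206446084cc542123142aac422625204901c808210))
def t3x : TN := (TN.leaf (nat_lit 0x4af917aa0b60320244268071094431008211205102080a400))
def t4x : TN := (TN.leaf (nat_lit 0x8644310fc93dc00c81c40d401231900866576519dc420401))
def tt : TN := (TN.node (TN.node (TN.node (TN.node t0x (TN.leaf (nat_lit 0))) (TN.node t4x (TN.leaf (nat_lit 0)))) (TN.node (TN.node t2x (TN.leaf (nat_lit 0))) (TN.node (TN.leaf (nat_lit 0)) (TN.leaf (nat_lit 0))))) (TN.node (TN.node (TN.node t1x (TN.leaf (nat_lit 0))) (TN.node (TN.leaf (nat_lit 0)) (TN.leaf (nat_lit 0)))) (TN.node (TN.node t3x (TN.leaf (nat_lit 0))) (TN.node (TN.leaf (nat_lit 0)) (TN.leaf (nat_lit 0))))))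
noncomputable def T (j c : ℕ) : ℕ := getL tt (nat_lit 13) (nat_lit 15) j c
noncomputable def E (j c : ℕ) : ℕ := getL tt (nat_lit 13) (nat_lit 8191) j c
theorem T_eq (j c : ℕ) : T j c = E j c % 16 :=
  getL_mod (a := 4) (b := 13) _ _ (by norm_num) (by norm_num) (by norm_num) (by norm_num) j c
def rels : List (List ℕ) := [[nat_lit 2, nat_lit 2, nat_lit 2], [nat_lit 0, nat_lit 1, nat_lit 0, nat_lit 1], [nat_lit 1, nat_lit 2, nat_lit 1, nat_lit 2, nat_lit 1, nat_lit 2], [nat_lit 2, nat_lit 0, nat_lit 3, nat_lit 1], [nat_lit 2, nat_lit 4, nat_lit 2, nat_lit 4, nat_lit 2, nat_lit 4], [nat_lit 0, nat_lit 1, nat_lit 4, nat_lit 0, nat_lit 1, nat_lit 4, nat_lit 0, nat_lit 1, nat_lit 4], [nat_lit 4, nat_lit 0, nat_lit 4, nat_lit 3, nat_lit 0, nat_lit 4, nat_lit 0, nat_lit 2]]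
def inv (i : ℕ) : ℕ := Nat.land (Nat.shiftRight (nat_lit 181448) (Nat.mul (nat_lit 3) i)) (nat_lit 7)
def X_t : TN := (TN.leaf (nat_lit 0))
noncomputable def X (i : ℕ) : ℕ := get9 X_t (nat_lit 1) (nat_lit 1) i
def Jp_t : TN := (TN.leaf (nat_lit 0))
noncomputable def Jp (i : ℕ) : ℕ := get9 Jp_t (nat_lit 1) (nat_lit 1) i
def J_t : TN := (TN.leaf (nat_lit 0))
noncomputable def J (k : ℕ) : ℕ := getV J_t Jp k
def Pa_t : TN := (TN.leaf (nat_lit 0x125242350682cc999b22646c850921342284082000))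
noncomputable def Pa (i : ℕ) : ℕ := get9 Pa_t (nat_lit 11) (nat_lit 2047) i
def W_t : TL := (TL.node (TL.node (TL.node (TL.node (TL.leaf [nat_lit 2, nat_lit 2, nat_lit 3, nat_lit 3]) (TL.leaf [nat_lit 4098, nat_lit 2, nat_lit 1, nat_lit 3, nat_lit 1, nat_lit 3, nat_lit 1])) (TL.node (TL.leaf [nat_lit 8194, nat_lit 4, nat_lit 3, nat_lit 4, nat_lit 3, nat_lit 4, nat_lit 3]) (TL.leaf [nat_lit 2051, nat_lit 1, nat_lit 0, nat_lit 1, nat_lit 0]))) (TL.node (TL.node (TL.leaf [nat_lit 6151, nat_lit 1, nat_lit 2, nat_lit 0, nat_lit 3]) (TL.leaf [nat_lit 10242, nat_lit 4, nat_lit 1, nat_lit 0, nat_lit 4, nat_lit 1, nat_lit 0, nat_lit 4, nat_lit 1, nat_lit 0])) (TL.node (TL.leaf [nat_lit 6149, nat_lit 2, nat_lit 1, nat_lit 2, nat_lit 0]) (TL.leaf [nat_lit 12303, nat_lit 3, nat_lit 4, nat_lit 0, nat_lit 4, nat_lit 3, nat_lit 0, nat_lit 4, nat_lit 0])))) (TL.node (TL.node (TL.node (TL.leaf [nat_lit 2049, nat_lit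 0, nat_lit 1, nat_lit 0, nat_lit 1]) (TL.leaf [nat_lit 8193, nat_lit 3, nat_lit 4, nat_lit 2, nat_lit 4, nat_lit 2, nat_lit 4])) (TL.node (TL.leaf [nat_lit 12289, nat_lit 4, nat_lit 0, nat_lit 4, nat_lit 3, nat_lit 0, nat_lit 4, nat_lit 0, nat_lit 2]) (TL.leaf [nat_lit 12293, nat_lit 4, nat_lit 3, nat_lit 0, nat_lit 4, nat_lit 0, nat_lit 2, nat_lit 4, nat_lit 0]))) (TL.node (TL.node (TL.leaf [nat_lit 6147, nat_lit 0, nat_lit 3, nat_lit 1, nat_lit 2]) (TL.leaf [nat_lit 12291, nat_lit 0, nat_lit 4, nat_lit 3, nat_lit 0, nat_lit 4, nat_lit 0, nat_lit 2, nat_lit 4])) (TL.leaf [nat_lit 4097, nat_lit 1, nat_lit 2, nat_lit 1, nat_lit 2, nat_lit 1, nat_lit 2]))))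
noncomputable def W (i : ℕ) : List ℕ := TL.get W_t i
def WA_t : TL := (TL.leaf [nat_lit 0])
noncomputable def WA (i : ℕ) : List ℕ := TL.get WA_t i
noncomputable def row : ℕ → ℕ := hRow (nat_lit 14) (nat_lit 5) (nat_lit 4) (nat_lit 16) (nat_lit 32) (nat_lit 512) (nat_lit 256) (nat_lit 256) (nat_lit 0) E X Pa inv (wfun (nat_lit 15) W_t)
noncomputable def aux : ℕ → ℕ := hAux (nat_lit 15) (nat_lit 5) (nat_lit 16) (nat_lit 512) (nat_lit 256) (nat_lit 2) (nat_lit 2) (nat_lit 256) (nat_lit 0) E X J Pa inv WA_t.get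
theorem r0 : Nat.beq (rng row (nat_lit 0) (nat_lit 15)) (nat_lit 0) = true := by decide +kernel
theorem rows : ∀ i < 15, row i = 0 := by
  have h := zero_lt_zero row
  have h := zero_lt_add (a := (nat_lit 0)) (n := (nat_lit 15)) (b := (nat_lit 15)) h r0 rfl
  exact h
theorem auxs : ∀ i < 0, aux i = 0 := by
  have h := zero_lt_zero aux
  exact h
theorem closes.{u} : ClosesT.{u} inv rels 5 4 15 T :=
  hc_closes (N1 := (nat_lit 14)) rfl T_eq (by decide +kernel) rows auxs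
theorem T_inv : ∀ c < 15, ∀ j < 5, T j c < 15 ∧ T (inv j) (T j c) = c := 
  hc_inv (inv := inv) (N1 := (nat_lit 14)) rfl T_eq rows
end L2

namespace L3
def t0x : TN := (TN.leaf (nat_lit 0x293f9c9f8a4fa106850155809880477033881704182a0594022b5dc340a5e05e105b70d8c25dc20b14975680ea44ed92e4203c480b549e820a6801c18dccc4d020a4203640cf94679835677241018186688332202d324ba099cc32a419410128808489225250424784114e00e330c3804100106492618b30869000c401c318a18830410440041040))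
def t1x : TN := (TN.leaf (nat_lit 0x817fc8bfa45faf02b0833a0096205840247818440bd40473021082e4c0b5e040e177831b3406e42e503f9731e041594030b01d101d8414ce5f4317848ba8414a54e8e3f130af9d67942d02033617710568ab32986958ab880a882aa5594101308088e2a242d060a7a402c208832cc43071801c6512400529e5041086290200d08208801840061040))
def t2x : TN := (TN.leaf (nat_lit 0xb01ee2dfef6fd803a21de2d0eee06610610830480b420b830b5a8110416c6164d036082c0c2be3060f0b8601330075416e1053185428059815410521852080e5b3d886a908280c27d304a20341018841306134202e500b880ac2092309510138808cc022201e58079c018871c201908218c22c402810421844150342082308510050801c40081040))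
def t3x : TN := (TN.leaf (nat_lit 0xc81f600f6b5fe503b601d5e6f020c5002c5814b26c08068105cb2bc900c420b7202d201704162336ce021082b34095204040270829ad5ad403a40230829522cc40702037200f04141725420351019100642098202f4a2ba629880281049101408090a8a2201f522794034c00c201a20050410c402a400708211953880081041100588020400a2000))
def t4x : TN := (TN.leaf (nat_lit 0x807fe43f961faf7bcb07dd83eb0cf2d02b581429fda603f0025a079bc0aa403d37f088133c0660fda401863bc39ec820a8a7774811c03bdece870154333d6c898034401293bac5ec48020b01b506e2e385ccdc30ec0825a8030cbc8202928048c380208e30dd0823280352f1c90d6100b9db0c81a6400210088803c8a0a50c440050cd2061821040))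
def t5x : TN := (TN.leaf (nat_lit 0x83e041e420ec203fa81684188407ce0215814880f5003c60322818148d0e03e44f3200cb009a95761057200d1809543ee401428122c8b8a9d44227200a880e9b470105131189c7d4209e104e08268c8ac63de104b101604128644631e808240411c40401046100e8807040361043100c0805820842013100908040800831c510060802420802001))
def tt : TN := (TN.node (TN.node (TN.node (TN.node t0x (TN.leaf (nat_lit 0))) (TN.node t4x (TN.leaf (nat_lit 0)))) (TN.node (TN.node t2x (TN.leaf (nat_lit 0))) (TN.node (TN.leaf (nat_lit 0)) (TN.leaf (nat_lit 0))))) (TN.node (TN.node (TN.node t1x (TN.leaf (nat_lit 0))) (TN.node t5x (TN.leaf (nat_lit 0)))) (TN.node (TN.node t3x (TN.leaf (nat_lit 0))) (TN.node (TN.leaf (nat_lit 0)) (TN.leaf (nat_lit 0))))))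
noncomputable def T (j c : ℕ) : ℕ := getL tt (nat_lit 17) (nat_lit 63) j c
noncomputable def E (j c : ℕ) : ℕ := getL tt (nat_lit 17) (nat_lit 131071) j c
theorem T_eq (j c : ℕ) : T j c = E j c % 64 :=
  getL_mod (a := 6) (b := 17) _ _ (by norm_num) (by norm_num) (by norm_num) (by norm_num) j c
def rels : List (List ℕ) := [[nat_lit 2, nat_lit 2, nat_lit 2], [nat_lit 0, nat_lit 1, nat_lit 0, nat_lit 1], [nat_lit 1, nat_lit 2, nat_lit 1, nat_lit 2, nat_lit 1, nat_lit 2], [nat_lit 2, nat_lit 0, nat_lit 3, nat_lit 1], [nat_lit 2, nat_lit 4, nat_lit 2, nat_lit 4, nat_lit 2, nat_lit 4], [nat_lit 0, nat_lit 1, nat_lit 4, nat_lit 0, nat_lit 1, nat_lit 4, nat_lit 0, nat_lit 1, nat_lit 4], [nat_lit 4, nat_lit 0, nat_lit 4, nat_lit 3, nat_lit 0, nat_lit 4, nat_lit 0, nat_lit 2], [nat_lit 0, nat_lit 5, nat_lit 0, nat_lit 5, nat_lit 0, nat_lit 5, nat_lit 0, nat_lit 5], [nat_lit 1, nat_lit 5, nat_lit 1, nat_lit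 5, nat_lit 1, nat_lit 5, nat_lit 1, nat_lit 5], [nat_lit 2, nat_lit 5, nat_lit 2, nat_lit 5, nat_lit 2, nat_lit 5], [nat_lit 4, nat_lit 5, nat_lit 4, nat_lit 5], [nat_lit 2, nat_lit 5, nat_lit 4, nat_lit 2, nat_lit 5, nat_lit 4, nat_lit 2, nat_lit 5, nat_lit 4], [nat_lit 5, nat_lit 0, nat_lit 4, nat_lit 2, nat_lit 0, nat_lit 5, nat_lit 0, nat_lit 3, nat_lit 4, nat_lit 0], [nat_lit 5, nat_lit 0, nat_lit 5, nat_lit 1, nat_lit 5, nat_lit 0, nat_lit 5, nat_lit 1], [nat_lit 5, nat_lit 1, nat_lit 3, nat_lit 5, nat_lit 1, nat_lit 4, nat_lit 3, nat_lit 5, nat_lit 0, nat_lit 5, nat_lit 0, nat_lit 2, nat_lit 4, nat_lit 0, nat_lit 2]]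
def inv (i : ℕ) : ℕ := Nat.land (Nat.shiftRight (nat_lit 0x1ac4c8) (Nat.mul (nat_lit 3) i)) (nat_lit 7)
def X_t : TN := (TN.leaf (nat_lit 0))
noncomputable def X (i : ℕ) : ℕ := get9 X_t (nat_lit 1) (nat_lit 1) i
def Jp_t : TN := (TN.leaf (nat_lit 0))
noncomputable def Jp (i : ℕ) : ℕ := get9 Jp_t (nat_lit 1) (nat_lit 1) i
def J_t : TN := (TN.leaf (nat_lit 0))
noncomputable def J (k : ℕ) : ℕ := getV J_t Jp k
def Pa_t : TN := (TN.leaf (nat_lit 0xfe2fe57ecba80d38e897447a12d016802b855c3ae0d6cab675b0ac1560eb01575ab1d586a89532a99d4c6a61522a91d486a41515a81540e9eb0e586ac30a1870b585a4296125093842c1d60e90658323141882c3561930cd84ac22611b085024813408a04080a000))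
noncomputable def Pa (i : ℕ) : ℕ := get9 Pa_t (nat_lit 13) (nat_lit 8191) i
def W_t : TL := (TL.node (TL.node (TL.node (TL.node (TL.node (TL.node (TL.leaf [nat_lit 2, nat_lit 2, nat_lit 3, nat_lit 3]) (TL.leaf [nat_lit 6145, nat_lit 3, nat_lit 0, nat_lit 3, nat_lit 1])) (TL.leaf [nat_lit 12291, nat_lit 0, nat_lit 4, nat_lit 3, nat_lit 0, nat_lit 4, nat_lit 0, nat_lit 2, nat_lit 4])) (TL.node (TL.node (TL.leaf [nat_lit 26631, nat_lit 1, nat_lit 5, nat_lit 0, nat_lit 5, nat_lit 1, nat_lit 5, nat_lit 0, nat_lit 5]) (TL.leaf [nat_lit 16387, nat_lit 5, nat_lit 1, nat_lit 5, nat_lit 1, nat_lit 5, nat_lit 1, nat_lit 5, nat_lit 1])) (TL.leaf [nat_lit 8196, nat_lit 2, nat_lit 4, nat_lit 3, nat_lit 4, nat_lit 3, nat_lit 4]))) (TL.node (TL.node (TL.node (TL.leaf [nat_lit 6147, nat_lit 0, nat_lit 3, nat_lit 1, nat_lit 2]) (TL.leaf [nat_lit 12303, nat_lit 3, nat_lit 4, nat_lit 0, nat_lit 4, nat_lit 3, nat_lit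 0, nat_lit 4, nat_lit 0])) (TL.leaf [nat_lit 4100, nat_lit 1, nat_lit 3, nat_lit 1, nat_lit 3, nat_lit 1, nat_lit 3])) (TL.node (TL.node (TL.leaf [nat_lit 6149, nat_lit 2, nat_lit 1, nat_lit 2, nat_lit 0]) (TL.leaf [nat_lit 12301, nat_lit 0, nat_lit 2, nat_lit 4, nat_lit 0, nat_lit 4, nat_lit 3, nat_lit 0, nat_lit 4])) (TL.leaf [nat_lit 12293, nat_lit 4, nat_lit 3, nat_lit 0, nat_lit 4, nat_lit 0, nat_lit 2, nat_lit 4, nat_lit 0])))) (TL.node (TL.node (TL.node (TL.node (TL.leaf [nat_lit 2049, nat_lit 0, nat_lit 1, nat_lit 0, nat_lit 1]) (TL.leaf [nat_lit 4099, nat_lit 3, nat_lit 1, nat_lit 2, nat_lit 1, nat_lit 2, nat_lit 1])) (TL.leaf [nat_lit 22533, nat_lit 4, nat_lit 2, nat_lit 5, nat_lit 4, nat_lit 2, nat_lit 5, nat_lit 4, nat_lit 2, nat_lit 5])) (TL.node (TL.node (TL.leaf [nat_lit 26627, nat_lit 0, nat_lit 5, nat_lit 1, nat_lit 5, nat_lit 0, nat_lit 5, nat_lit 1, nat_lit 5]) (TL.leaf [nat_lit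 28683, nat_lit 4, nat_lit 3, nat_lit 5, nat_lit 0, nat_lit 5, nat_lit 0, nat_lit 2, nat_lit 4, nat_lit 0, nat_lit 2, nat_lit 5, nat_lit 1, nat_lit 3, nat_lit 5, nat_lit 1])) (TL.leaf [nat_lit 24595, nat_lit 0, nat_lit 5, nat_lit 0, nat_lit 4, nat_lit 2, nat_lit 0, nat_lit 5, nat_lit 0, nat_lit 3, nat_lit 4]))) (TL.node (TL.node (TL.node (TL.leaf [nat_lit 18435, nat_lit 5, nat_lit 2, nat_lit 5, nat_lit 2, nat_lit 5, nat_lit 2]) (TL.leaf [nat_lit 20483, nat_lit 5, nat_lit 4, nat_lit 5, nat_lit 4])) (TL.leaf [nat_lit 2051, nat_lit 1, nat_lit 0, nat_lit 1, nat_lit 0])) (TL.node (TL.leaf [nat_lit 4098, nat_lit 2, nat_lit 1, nat_lit 3, nat_lit 1, nat_lit 3, nat_lit 1]) (TL.leaf [nat_lit 24591, nat_lit 2, nat_lit 4, nat_lit 0, nat_lit 5, nat_lit 0, nat_lit 4, nat_lit 2, nat_lit 0, nat_lit 5, nat_lit 0]))))) (TL.node (TL.node (TL.node (TL.node (TL.node (TL.leaf [nat_lit 20481, nat_lit 4, nat_lit 5, nat_lit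 4, nat_lit 5]) (TL.leaf [nat_lit 24581, nat_lit 4, nat_lit 2, nat_lit 0, nat_lit 5, nat_lit 0, nat_lit 3, nat_lit 4, nat_lit 0, nat_lit 5, nat_lit 0])) (TL.leaf [nat_lit 26625, nat_lit 5, nat_lit 0, nat_lit 5, nat_lit 1, nat_lit 5, nat_lit 0, nat_lit 5, nat_lit 1])) (TL.node (TL.node (TL.leaf [nat_lit 16385, nat_lit 1, nat_lit 5, nat_lit 1, nat_lit 5, nat_lit 1, nat_lit 5, nat_lit 1, nat_lit 5]) (TL.leaf [nat_lit 18433, nat_lit 3, nat_lit 5, nat_lit 2, nat_lit 5, nat_lit 2, nat_lit 5])) (TL.leaf [nat_lit 12289, nat_lit 4, nat_lit 0, nat_lit 4, nat_lit 3, nat_lit 0, nat_lit 4, nat_lit 0, nat_lit 2]))) (TL.node (TL.node (TL.node (TL.leaf [nat_lit 18434, nat_lit 5, nat_lit 3, nat_lit 5, nat_lit 3, nat_lit 5, nat_lit 3]) (TL.leaf [nat_lit 22534, nat_lit 2, nat_lit 4, nat_lit 5, nat_lit 3, nat_lit 4, nat_lit 5, nat_lit 3, nat_lit 4, nat_lit 5])) (TL.leaf [nat_lit 22530, nat_lit 4, nat_lit 5, nat_lit 3,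 nat_lit 4, nat_lit 5, nat_lit 3, nat_lit 4, nat_lit 5, nat_lit 3])) (TL.node (TL.leaf [nat_lit 4097, nat_lit 1, nat_lit 2, nat_lit 1, nat_lit 2, nat_lit 1, nat_lit 2]) (TL.leaf [nat_lit 12299, nat_lit 4, nat_lit 0, nat_lit 2, nat_lit 4, nat_lit 0, nat_lit 4, nat_lit 3, nat_lit 0])))) (TL.node (TL.node (TL.node (TL.node (TL.leaf [nat_lit 6151, nat_lit 1, nat_lit 2, nat_lit 0, nat_lit 3]) (TL.leaf [nat_lit 12297, nat_lit 0, nat_lit 4, nat_lit 0, nat_lit 2, nat_lit 4, nat_lit 0, nat_lit 4, nat_lit 3])) (TL.leaf [nat_lit 1, nat_lit 3, nat_lit 2, nat_lit 2])) (TL.node (TL.node (TL.leaf [nat_lit 24593, nat_lit 4, nat_lit 0, nat_lit 5, nat_lit 0, nat_lit 4, nat_lit 2, nat_lit 0, nat_lit 5, nat_lit 0, nat_lit 3]) (TL.leaf [nat_lit 18436, nat_lit 2, nat_lit 5, nat_lit 3, nat_lit 5, nat_lit 3, nat_lit 5])) (TL.leaf [nat_lit 8194, nat_lit 4, nat_lit 3, nat_lit 4, nat_lit 3, nat_lit 4, nat_lit 3]))) (TL.node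 (TL.node (TL.node (TL.leaf [nat_lit 14337, nat_lit 0, nat_lit 5, nat_lit 0, nat_lit 5, nat_lit 0, nat_lit 5, nat_lit 0, nat_lit 5]) (TL.leaf [nat_lit 10244, nat_lit 1, nat_lit 0, nat_lit 4, nat_lit 1, nat_lit 0, nat_lit 4, nat_lit 1, nat_lit 0, nat_lit 4])) (TL.leaf [nat_lit 8195, nat_lit 4, nat_lit 2, nat_lit 4, nat_lit 2, nat_lit 4, nat_lit 2])) (TL.node (TL.leaf [nat_lit 8193, nat_lit 3, nat_lit 4, nat_lit 2, nat_lit 4, nat_lit 2, nat_lit 4]) (TL.leaf [nat_lit 28700, nat_lit 1, nat_lit 5, nat_lit 3, nat_lit 0, nat_lit 4, nat_lit 3, nat_lit 0, nat_lit 5, nat_lit 0, nat_lit 5, nat_lit 2, nat_lit 4, nat_lit 1, nat_lit 5, nat_lit 2]))))))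
noncomputable def W (i : ℕ) : List ℕ := TL.get W_t i
def WA_t : TL := (TL.leaf [nat_lit 0])
noncomputable def WA (i : ℕ) : List ℕ := TL.get WA_t i
noncomputable def row : ℕ → ℕ := hRow (nat_lit 63) (nat_lit 6) (nat_lit 5) (nat_lit 64) (nat_lit 64) (nat_lit 4096) (nat_lit 1024) (nat_lit 1024) (nat_lit 0) E X Pa inv (wfun (nat_lit 45) W_t)
noncomputable def aux : ℕ → ℕ := hAux (nat_lit 64) (nat_lit 6) (nat_lit 64) (nat_lit 4096) (nat_lit 1024) (nat_lit 2) (nat_lit 2) (nat_lit 1024) (nat_lit 0) E X J Pa inv WA_t.get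
theorem r0 : Nat.beq (rng row (nat_lit 0) (nat_lit 64)) (nat_lit 0) = true := by decide +kernel
theorem rows : ∀ i < 64, row i = 0 := by
  have h := zero_lt_zero row
  have h := zero_lt_add (a := (nat_lit 0)) (n := (nat_lit 64)) (b := (nat_lit 64)) h r0 rfl
  exact h
theorem auxs : ∀ i < 0, aux i = 0 := by
  have h := zero_lt_zero aux
  exact h
theorem closes.{u} : ClosesT.{u} inv rels 6 5 64 T :=
  hc_closes (N1 := (nat_lit 63)) rfl T_eq (by decide +kernel) rows auxs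
theorem T_inv : ∀ c < 64, ∀ j < 6, T j c < 64 ∧ T (inv j) (T j c) = c := 
  hc_inv (inv := inv) (N1 := (nat_lit 63)) rfl T_eq rows
end L3

namespace L4
def t0x : TN := (TN.leaf (nat_lit 0x9195490049040c8241d11c1d0140418004a1cacd401cc40acb7c1ce8c353080521402e100252c043201c4281c520ac2101cf1c03918c3f6403a100183001918abb601be1834010017040942c01d3cc35100133cab33402c100120408f1c027101c710c2d319321000e1001010aa9340211832f1000d0c1c60408b2801b1cc22319282801c1800a1ca9e2833624420241a3100092c1bc0c43d0c3380408738415080370c4340c331040860c1aa080300c42b0c32604085080241419f0c31a0408408016080110800c0800814183104020c18104080))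
def t1x : TN := (TN.leaf (nat_lit 0x943d4040c88c04924251182501c04e1824f18bcd3c24c3cbcb7c04188bd2080531002a3404530246202441402520bc27824a0409814bbf5c03c18039583be14b3b10019149bd040963802c0409338bb52801d38b331001404091380210408e1001010bad353b7180270c24710b291000f149ab0408c10243300201800a1cba2353b02d3a42001b1cb1e249b41000b1c99f040880c3ba08040040870803835a950c3b20803604086080310c22e0c3a80802f04085080260c39c14223040840801a08017080120800d080091038314e020c20104080))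
def t2x : TN := (TN.leaf (nat_lit 0x680549805328048740506004c3404e8004a7804d5d4d1400427d4cf896d2556c93c02e2404528043516cb354c655e44300413803c6c035040970c13e55fb85001e040960c13a14a4038031108b74802d4802c516bb0409114a3634026108b04002a556bf4001238021294c7440290408c0c12814a2f140253401a1c8a4300223810d0408920120296b320132040880c11c294a3040870c1190803d080392c015040860c114080341919d1d110040850c10f0802b08027040840c10b1889f0801b08018080130800e0800a040810c1030800204080))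
def t3x : TN := (TN.leaf (nat_lit 0x65454958538c0496004c709518004a3094f7544d5c950540447c94e58048252d22c02a380432094658042249453d44b2c941180385802d1003d04097358405403310039040965803c14036180316943f040922c01e2401d352b71402f18026389474543545c340408d3c92e41429100270408c318b010925200232c01a2d4223582b2401f1c0094d43b1c0111001b04088318a410018040870803e0803a2941510013040863d8ac08032200101000e040853c021080281000a04084080200801c08019080140800f0800b10002040810800308000))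
def t4x : TN := (TN.leaf (nat_lit 0x8c04e995536404c600455c0478004a882d4402cd615521c2cb7d7cf4c043040aa597d04402e5d7d1597c4482c9142c2357c1742c06c0345801758022557bc5403250029400163ccb83153730f363401f682bf48028502bb18cb1295302d7af417c62802b0408d24d2d080484c2ba442b32401118ca62d7a52d5242d723542bd040892d592302b52401c040882131e1c00c10c9a300182c51955f3e3cf39100071000a1c00f3002020ea71901018e931800b0802c18f1b14e8e0c514080210801d0c2950408314002040810800610d050800404080))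
def t5x : TN := (TN.leaf (nat_lit 0x40cc4dd538804e540505075158046859d2040b808054040b1040ae040aa48043540455474f507474dda645cc80409a347417003c0409768034540216dd40040964c01b500320804d340233003004092659be040914c5b90804b2d9b6480240804a0408d2c02b28dac080490408c400273dba85004431b2545a2f31a370408951d3d2c01f29620040882801c24d9d49d3a080421000e2000b0803f0803b040862801324d9408035080330c7102000a0c5990802d080291d0981c58f080220801e040830801504081180020800714d840800504080))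
def t6x : TN := (TN.leaf (nat_lit 0x14fd434853347d2040c2040bf040bd040b96cfcd040b35c0357804054fc930648040a6040a4040a00409e0409c080510409874fca08050600380804f040965802d2c0170804e5c4be2c7b7288365924b4d2340804c2c4b2148312c02b280280408d546bb3062c287b00408c51ea92482f34021080470408b080460408938fa2306a70804504088080442861d080432081a2401b28007080412883a0803c3069528494246931081210791040852120e2400f0802e0802a0802510004080230801f24f990c606080100c68a100020c4830408008001))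
def tt : TN := (TN.node (TN.node (TN.node (TN.node t0x (TN.leaf (nat_lit 0))) (TN.node t4x (TN.leaf (nat_lit 0)))) (TN.node (TN.node t2x (TN.leaf (nat_lit 0))) (TN.node t6x (TN.leaf (nat_lit 0))))) (TN.node (TN.node (TN.node t1x (TN.leaf (nat_lit 0))) (TN.node t5x (TN.leaf (nat_lit 0)))) (TN.node (TN.node t3x (TN.leaf (nat_lit 0))) (TN.node (TN.leaf (nat_lit 0)) (TN.leaf (nat_lit 0))))))
noncomputable def T (j c : ℕ) : ℕ := getL tt (nat_lit 20) (nat_lit 127) j c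
noncomputable def E (j c : ℕ) : ℕ := getL tt (nat_lit 20) (nat_lit 0xfffff) j c
theorem T_eq (j c : ℕ) : T j c = E j c % 128 :=
  getL_mod (a := 7) (b := 20) _ _ (by norm_num) (by norm_num) (by norm_num) (by norm_num) j c
def rels : List (List ℕ) := [[nat_lit 2, nat_lit 2, nat_lit 2], [nat_lit 0, nat_lit 1, nat_lit 0, nat_lit 1], [nat_lit 1, nat_lit 2, nat_lit 1, nat_lit 2, nat_lit 1, nat_lit 2], [nat_lit 2, nat_lit 0, nat_lit 3, nat_lit 1], [nat_lit 2, nat_lit 4, nat_lit 2, nat_lit 4, nat_lit 2, nat_lit 4], [nat_lit 0, nat_lit 1, nat_lit 4, nat_lit 0, nat_lit 1, nat_lit 4, nat_lit 0, nat_lit 1, nat_lit 4], [nat_lit 4, nat_lit 0, nat_lit 4, nat_lit 3, nat_lit 0, nat_lit 4, nat_lit 0, nat_lit 2], [nat_lit 0, nat_lit 5, nat_lit 0, nat_lit 5, nat_lit 0, nat_lit 5, nat_lit 0, nat_lit 5], [nat_lit 1, nat_lit 5, nat_lit 1, nat_lit 5, nat_lit 1, nat_lit 5, nat_lit 1, nat_lit 5], [nat_lit 2, nat_lit 5, nat_lit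 2, nat_lit 5, nat_lit 2, nat_lit 5], [nat_lit 4, nat_lit 5, nat_lit 4, nat_lit 5], [nat_lit 2, nat_lit 5, nat_lit 4, nat_lit 2, nat_lit 5, nat_lit 4, nat_lit 2, nat_lit 5, nat_lit 4], [nat_lit 5, nat_lit 0, nat_lit 4, nat_lit 2, nat_lit 0, nat_lit 5, nat_lit 0, nat_lit 3, nat_lit 4, nat_lit 0], [nat_lit 5, nat_lit 0, nat_lit 5, nat_lit 1, nat_lit 5, nat_lit 0, nat_lit 5, nat_lit 1], [nat_lit 5, nat_lit 1, nat_lit 3, nat_lit 5, nat_lit 1, nat_lit 4, nat_lit 3, nat_lit 5, nat_lit 0, nat_lit 5, nat_lit 0, nat_lit 2, nat_lit 4, nat_lit 0, nat_lit 2], [nat_lit 0, nat_lit 6, nat_lit 0, nat_lit 6], [nat_lit 1, nat_lit 6, nat_lit 1, nat_lit 6], [nat_lit 2, nat_lit 6, nat_lit 2, nat_lit 6, nat_lit 2, nat_lit 6], [nat_lit 4, nat_lit 6, nat_lit 4, nat_lit 6, nat_lit 4, nat_lit 6, nat_lit 4, nat_lit 6, nat_lit 4, nat_lit 6], [nat_lit 5, nat_lit 6, nat_lit 5, nat_lit 6, nat_lit 5, nat_lit 6, nat_lit 5, nat_lit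 6], [nat_lit 6, nat_lit 2, nat_lit 4, nat_lit 5, nat_lit 6, nat_lit 1, nat_lit 2, nat_lit 4, nat_lit 5, nat_lit 1], [nat_lit 6, nat_lit 4, nat_lit 6, nat_lit 3, nat_lit 4, nat_lit 6, nat_lit 4, nat_lit 2]]
def inv (i : ℕ) : ℕ := Nat.land (Nat.shiftRight (nat_lit 0xfac4c8) (Nat.mul (nat_lit 3) i)) (nat_lit 7)
def X_t : TN := (TN.leaf (nat_lit 0))
noncomputable def X (i : ℕ) : ℕ := get9 X_t (nat_lit 1) (nat_lit 1) i
def Jp_t : TN := (TN.leaf (nat_lit 0))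
noncomputable def Jp (i : ℕ) : ℕ := get9 Jp_t (nat_lit 1) (nat_lit 1) i
def J_t : TN := (TN.leaf (nat_lit 0))
noncomputable def J (k : ℕ) : ℕ := getV J_t Jp k
def Pa_t : TN := (TN.leaf (nat_lit 0x3cc5d207480d09b3f6cf5b396ce17336cc56ae5aa96aa4a99aa46a81a9e6a71a9a5a61a981a5d6972a5ce966a596962a58e961a502931a496923a456912a4460f083860d683560d4834e0c683160c2830e0c182da0b0825a0958252092821a0858212082820e08181ca07381c60708196062818e0618181856614985361458506109843610584060d5834405501440490132018000))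
noncomputable def Pa (i : ℕ) : ℕ := get9 Pa_t (nat_lit 14) (nat_lit 16383) i
def W_t : TL := (TL.node (TL.node (TL.node (TL.node (TL.node (TL.node (TL.leaf [nat_lit 2, nat_lit 2, nat_lit 3, nat_lit 3]) (TL.leaf [nat_lit 43015, nat_lit 2, nat_lit 4, nat_lit 6, nat_lit 4, nat_lit 2, nat_lit 6, nat_lit 4, nat_lit 6])) (TL.node (TL.leaf [nat_lit 34817, nat_lit 3, nat_lit 6, nat_lit 2, nat_lit 6, nat_lit 2, nat_lit 6]) (TL.leaf [nat_lit 12297, nat_lit 0, nat_lit 4, nat_lit 0, nat_lit 2, nat_lit 4, nat_lit 0, nat_lit 4, nat_lit 3]))) (TL.node (TL.node (TL.leaf [nat_lit 8194, nat_lit 4, nat_lit 3, nat_lit 4, nat_lit 3, nat_lit 4, nat_lit 3]) (TL.leaf [nat_lit 12293, nat_lit 4, nat_lit 3, nat_lit 0, nat_lit 4, nat_lit 0, nat_lit 2, nat_lit 4, nat_lit 0])) (TL.node (TL.leaf [nat_lit 40966, nat_lit 4, nat_lit 3, nat_lit 1, nat_lit 6, nat_lit 5, nat_lit 4, nat_lit 3, nat_lit 6, nat_lit 1, nat_lit 5]) (TL.leaf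 [nat_lit 16387, nat_lit 5, nat_lit 1, nat_lit 5, nat_lit 1, nat_lit 5, nat_lit 1, nat_lit 5, nat_lit 1])))) (TL.node (TL.node (TL.node (TL.leaf [nat_lit 2049, nat_lit 0, nat_lit 1, nat_lit 0, nat_lit 1]) (TL.leaf [nat_lit 24581, nat_lit 4, nat_lit 2, nat_lit 0, nat_lit 5, nat_lit 0, nat_lit 3, nat_lit 4, nat_lit 0, nat_lit 5, nat_lit 0])) (TL.node (TL.leaf [nat_lit 26631, nat_lit 1, nat_lit 5, nat_lit 0, nat_lit 5, nat_lit 1, nat_lit 5, nat_lit 0, nat_lit 5]) (TL.leaf [nat_lit 40974, nat_lit 5, nat_lit 4, nat_lit 3, nat_lit 6, nat_lit 1, nat_lit 5, nat_lit 4, nat_lit 3, nat_lit 1, nat_lit 6]))) (TL.node (TL.node (TL.leaf [nat_lit 38913, nat_lit 5, nat_lit 6, nat_lit 5, nat_lit 6, nat_lit 5, nat_lit 6, nat_lit 5, nat_lit 6]) (TL.leaf [nat_lit 12299, nat_lit 4, nat_lit 0, nat_lit 2, nat_lit 4, nat_lit 0, nat_lit 4, nat_lit 3, nat_lit 0])) (TL.node (TL.leaf [nat_lit 12289, nat_lit 4, nat_lit 0, nat_lit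 4, nat_lit 3, nat_lit 0, nat_lit 4, nat_lit 0, nat_lit 2]) (TL.leaf [nat_lit 43017, nat_lit 4, nat_lit 6, nat_lit 4, nat_lit 2, nat_lit 6, nat_lit 4, nat_lit 6, nat_lit 3]))))) (TL.node (TL.node (TL.node (TL.node (TL.leaf [nat_lit 32769, nat_lit 1, nat_lit 6, nat_lit 1, nat_lit 6]) (TL.leaf [nat_lit 34819, nat_lit 6, nat_lit 2, nat_lit 6, nat_lit 2, nat_lit 6, nat_lit 2])) (TL.node (TL.leaf [nat_lit 4098, nat_lit 2, nat_lit 1, nat_lit 3, nat_lit 1, nat_lit 3, nat_lit 1]) (TL.leaf [nat_lit 26629, nat_lit 5, nat_lit 1, nat_lit 5, nat_lit 0, nat_lit 5, nat_lit 1, nat_lit 5, nat_lit 0]))) (TL.node (TL.node (TL.leaf [nat_lit 43019, nat_lit 6, nat_lit 4, nat_lit 2, nat_lit 6, nat_lit 4, nat_lit 6, nat_lit 3, nat_lit 4]) (TL.leaf [nat_lit 24587, nat_lit 5, nat_lit 0, nat_lit 3, nat_lit 4, nat_lit 0, nat_lit 5, nat_lit 0, nat_lit 4, nat_lit 2, nat_lit 0])) (TL.node (TL.leaf [nat_lit 4100, nat_lit 1, nat_lit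 3, nat_lit 1, nat_lit 3, nat_lit 1, nat_lit 3]) (TL.leaf [nat_lit 28677, nat_lit 2, nat_lit 5, nat_lit 1, nat_lit 4, nat_lit 3, nat_lit 5, nat_lit 0, nat_lit 5, nat_lit 0, nat_lit 2, nat_lit 4, nat_lit 0, nat_lit 2, nat_lit 5, nat_lit 1])))) (TL.node (TL.node (TL.node (TL.leaf [nat_lit 6147, nat_lit 0, nat_lit 3, nat_lit 1, nat_lit 2]) (TL.leaf [nat_lit 18433, nat_lit 3, nat_lit 5, nat_lit 2, nat_lit 5, nat_lit 2, nat_lit 5])) (TL.node (TL.leaf [nat_lit 26627, nat_lit 0, nat_lit 5, nat_lit 1, nat_lit 5, nat_lit 0, nat_lit 5, nat_lit 1, nat_lit 5]) (TL.leaf [nat_lit 1, nat_lit 3, nat_lit 2, nat_lit 2]))) (TL.node (TL.node (TL.leaf [nat_lit 32771, nat_lit 6, nat_lit 1, nat_lit 6, nat_lit 1]) (TL.leaf [nat_lit 6145, nat_lit 3, nat_lit 0, nat_lit 3, nat_lit 1])) (TL.leaf [nat_lit 36865, nat_lit 4, nat_lit 6, nat_lit 4, nat_lit 6, nat_lit 4, nat_lit 6, nat_lit 4, nat_lit 6, nat_lit 4, nat_lit 6])))))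 (TL.node (TL.node (TL.node (TL.node (TL.node (TL.leaf [nat_lit 30721, nat_lit 0, nat_lit 6, nat_lit 0, nat_lit 6]) (TL.leaf [nat_lit 12295, nat_lit 2, nat_lit 0, nat_lit 4, nat_lit 0, nat_lit 2, nat_lit 4, nat_lit 0, nat_lit 4])) (TL.node (TL.leaf [nat_lit 4097, nat_lit 1, nat_lit 2, nat_lit 1, nat_lit 2, nat_lit 1, nat_lit 2]) (TL.leaf [nat_lit 14339, nat_lit 5, nat_lit 0, nat_lit 5, nat_lit 0, nat_lit 5, nat_lit 0, nat_lit 5, nat_lit 0]))) (TL.node (TL.node (TL.leaf [nat_lit 18434, nat_lit 5, nat_lit 3, nat_lit 5, nat_lit 3, nat_lit 5, nat_lit 3]) (TL.leaf [nat_lit 10245, nat_lit 4, nat_lit 0, nat_lit 1, nat_lit 4, nat_lit 0, nat_lit 1, nat_lit 4, nat_lit 0, nat_lit 1])) (TL.node (TL.leaf [nat_lit 20483, nat_lit 5, nat_lit 4, nat_lit 5, nat_lit 4]) (TL.leaf [nat_lit 40977, nat_lit 5, nat_lit 1, nat_lit 6, nat_lit 2, nat_lit 4, nat_lit 5, nat_lit 6, nat_lit 1, nat_lit 2, nat_lit 4])))) (TL.node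 (TL.node (TL.node (TL.leaf [nat_lit 6151, nat_lit 1, nat_lit 2, nat_lit 0, nat_lit 3]) (TL.leaf [nat_lit 2051, nat_lit 1, nat_lit 0, nat_lit 1, nat_lit 0])) (TL.node (TL.leaf [nat_lit 16385, nat_lit 1, nat_lit 5, nat_lit 1, nat_lit 5, nat_lit 1, nat_lit 5, nat_lit 1, nat_lit 5]) (TL.leaf [nat_lit 28696, nat_lit 5, nat_lit 2, nat_lit 1, nat_lit 5, nat_lit 3, nat_lit 0, nat_lit 4, nat_lit 3, nat_lit 0, nat_lit 5, nat_lit 0, nat_lit 5, nat_lit 2, nat_lit 4, nat_lit 1]))) (TL.node (TL.node (TL.leaf [nat_lit 30723, nat_lit 6, nat_lit 0, nat_lit 6, nat_lit 0]) (TL.leaf [nat_lit 43011, nat_lit 4, nat_lit 6, nat_lit 3, nat_lit 4, nat_lit 6, nat_lit 4, nat_lit 2, nat_lit 6])) (TL.node (TL.leaf [nat_lit 38915, nat_lit 6, nat_lit 5, nat_lit 6, nat_lit 5, nat_lit 6, nat_lit 5, nat_lit 6, nat_lit 5]) (TL.leaf [nat_lit 28680, nat_lit 2, nat_lit 0, nat_lit 5, nat_lit 0, nat_lit 5, nat_lit 2, nat_lit 4, nat_lit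 1, nat_lit 5, nat_lit 2, nat_lit 1, nat_lit 5, nat_lit 3, nat_lit 0, nat_lit 4]))))) (TL.node (TL.node (TL.node (TL.node (TL.leaf [nat_lit 20481, nat_lit 4, nat_lit 5, nat_lit 4, nat_lit 5]) (TL.leaf [nat_lit 12303, nat_lit 3, nat_lit 4, nat_lit 0, nat_lit 4, nat_lit 3, nat_lit 0, nat_lit 4, nat_lit 0])) (TL.node (TL.leaf [nat_lit 14337, nat_lit 0, nat_lit 5, nat_lit 0, nat_lit 5, nat_lit 0, nat_lit 5, nat_lit 0, nat_lit 5]) (TL.leaf [nat_lit 40979, nat_lit 1, nat_lit 6, nat_lit 2, nat_lit 4, nat_lit 5, nat_lit 6, nat_lit 1, nat_lit 2, nat_lit 4, nat_lit 5]))) (TL.node (TL.node (TL.leaf [nat_lit 43009, nat_lit 6, nat_lit 4, nat_lit 6, nat_lit 3, nat_lit 4, nat_lit 6, nat_lit 4, nat_lit 2]) (TL.leaf [nat_lit 18436, nat_lit 2, nat_lit 5, nat_lit 3, nat_lit 5, nat_lit 3, nat_lit 5])) (TL.node (TL.leaf [nat_lit 8195, nat_lit 4, nat_lit 2, nat_lit 4, nat_lit 2, nat_lit 4, nat_lit 2]) (TL.leaf [nat_lit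 40961, nat_lit 6, nat_lit 2, nat_lit 4, nat_lit 5, nat_lit 6, nat_lit 1, nat_lit 2, nat_lit 4, nat_lit 5, nat_lit 1])))) (TL.node (TL.node (TL.node (TL.leaf [nat_lit 34818, nat_lit 6, nat_lit 3, nat_lit 6, nat_lit 3, nat_lit 6, nat_lit 3]) (TL.leaf [nat_lit 34820, nat_lit 2, nat_lit 6, nat_lit 3, nat_lit 6, nat_lit 3, nat_lit 6])) (TL.node (TL.leaf [nat_lit 10242, nat_lit 4, nat_lit 1, nat_lit 0, nat_lit 4, nat_lit 1, nat_lit 0, nat_lit 4, nat_lit 1, nat_lit 0]) (TL.leaf [nat_lit 40967, nat_lit 5, nat_lit 6, nat_lit 1, nat_lit 2, nat_lit 4, nat_lit 5, nat_lit 1, nat_lit 6, nat_lit 2, nat_lit 4]))) (TL.node (TL.node (TL.leaf [nat_lit 6149, nat_lit 2, nat_lit 1, nat_lit 2, nat_lit 0]) (TL.leaf [nat_lit 8193, nat_lit 3, nat_lit 4, nat_lit 2, nat_lit 4, nat_lit 2, nat_lit 4])) (TL.leaf [nat_lit 18435, nat_lit 5, nat_lit 2, nat_lit 5, nat_lit 2, nat_lit 5, nat_lit 2]))))))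
noncomputable def W (i : ℕ) : List ℕ := TL.get W_t i
def WA_t : TL := (TL.leaf [nat_lit 0])
noncomputable def WA (i : ℕ) : List ℕ := TL.get WA_t i
noncomputable def row : ℕ → ℕ := hRow (nat_lit 84) (nat_lit 7) (nat_lit 6) (nat_lit 128) (nat_lit 128) (nat_lit 16384) (nat_lit 2048) (nat_lit 2048) (nat_lit 0) E X Pa inv (wfun (nat_lit 62) W_t)
noncomputable def aux : ℕ → ℕ := hAux (nat_lit 85) (nat_lit 7) (nat_lit 128) (nat_lit 16384) (nat_lit 2048) (nat_lit 2) (nat_lit 2) (nat_lit 2048) (nat_lit 0) E X J Pa inv WA_t.get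
theorem r0 : Nat.beq (rng row (nat_lit 0) (nat_lit 85)) (nat_lit 0) = true := by decide +kernel
theorem rows : ∀ i < 85, row i = 0 := by
  have h := zero_lt_zero row
  have h := zero_lt_add (a := (nat_lit 0)) (n := (nat_lit 85)) (b := (nat_lit 85)) h r0 rfl
  exact h
theorem auxs : ∀ i < 0, aux i = 0 := by
  have h := zero_lt_zero aux
  exact h
theorem closes.{u} : ClosesT.{u} inv rels 7 6 85 T :=
  hc_closes (N1 := (nat_lit 84)) rfl T_eq (by decide +kernel) rows auxs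
theorem T_inv : ∀ c < 85, ∀ j < 7, T j c < 85 ∧ T (inv j) (T j c) = c := 
  hc_inv (inv := inv) (N1 := (nat_lit 84)) rfl T_eq rows
end L4

def rels : List (List ℕ) := [[nat_lit 2, nat_lit 2, nat_lit 2], [nat_lit 0, nat_lit 1, nat_lit 0, nat_lit 1], [nat_lit 1, nat_lit 2, nat_lit 1, nat_lit 2, nat_lit 1, nat_lit 2], [nat_lit 2, nat_lit 0, nat_lit 3, nat_lit 1], [nat_lit 2, nat_lit 4, nat_lit 2, nat_lit 4, nat_lit 2, nat_lit 4], [nat_lit 0, nat_lit 1, nat_lit 4, nat_lit 0, nat_lit 1, nat_lit 4, nat_lit 0, nat_lit 1, nat_lit 4], [nat_lit 4, nat_lit 0, nat_lit 4, nat_lit 3, nat_lit 0, nat_lit 4, nat_lit 0, nat_lit 2], [nat_lit 0, nat_lit 5, nat_lit 0, nat_lit 5, nat_lit 0, nat_lit 5, nat_lit 0, nat_lit 5], [nat_lit 1, nat_lit 5, nat_lit 1, nat_lit 5, nat_lit 1, nat_lit 5, nat_lit 1, nat_lit 5], [nat_lit 2, nat_lit 5, nat_lit 2, nat_lit 5, nat_lit 2, nat_lit 5], [nat_lit 4, nat_lit 5, nat_lit 4, nat_lit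 5], [nat_lit 2, nat_lit 5, nat_lit 4, nat_lit 2, nat_lit 5, nat_lit 4, nat_lit 2, nat_lit 5, nat_lit 4], [nat_lit 5, nat_lit 0, nat_lit 4, nat_lit 2, nat_lit 0, nat_lit 5, nat_lit 0, nat_lit 3, nat_lit 4, nat_lit 0], [nat_lit 5, nat_lit 0, nat_lit 5, nat_lit 1, nat_lit 5, nat_lit 0, nat_lit 5, nat_lit 1], [nat_lit 5, nat_lit 1, nat_lit 3, nat_lit 5, nat_lit 1, nat_lit 4, nat_lit 3, nat_lit 5, nat_lit 0, nat_lit 5, nat_lit 0, nat_lit 2, nat_lit 4, nat_lit 0, nat_lit 2], [nat_lit 0, nat_lit 6, nat_lit 0, nat_lit 6], [nat_lit 1, nat_lit 6, nat_lit 1, nat_lit 6], [nat_lit 2, nat_lit 6, nat_lit 2, nat_lit 6, nat_lit 2, nat_lit 6], [nat_lit 4, nat_lit 6, nat_lit 4, nat_lit 6, nat_lit 4, nat_lit 6, nat_lit 4, nat_lit 6, nat_lit 4, nat_lit 6], [nat_lit 5, nat_lit 6, nat_lit 5, nat_lit 6, nat_lit 5, nat_lit 6, nat_lit 5, nat_lit 6], [nat_lit 6, nat_lit 2, nat_lit 4, nat_lit 5, nat_lit 6, nat_lit 1, nat_lit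 2, nat_lit 4, nat_lit 5, nat_lit 1], [nat_lit 6, nat_lit 4, nat_lit 6, nat_lit 3, nat_lit 4, nat_lit 6, nat_lit 4, nat_lit 2]]
def inv (i : ℕ) : ℕ := Nat.land (Nat.shiftRight (nat_lit 0x1ac4c8) (Nat.mul (nat_lit 3) i)) (nat_lit 7)
theorem ub4 {Γ : Type} [Group Γ] {g : ℕ → Γ} (h1 : InvOK g inv 7) (h2 : ∀ w ∈ rels, ev g w = 1) : CardLE (gen g 4) 12 :=
  tw h1 h2 L1.closes (by decide +kernel) (cardLE_gen_zero g)
theorem ub5 {Γ : Type} [Group Γ] {g : ℕ → Γ} (h1 : InvOK g inv 7) (h2 : ∀ w ∈ rels, ev g w = 1) : CardLE (gen g 5) 180 :=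
  tw h1 h2 L2.closes (by decide +kernel) (ub4 h1 h2)
theorem ub6 {Γ : Type} [Group Γ] {g : ℕ → Γ} (h1 : InvOK g inv 7) (h2 : ∀ w ∈ rels, ev g w = 1) : CardLE (gen g 6) 11520 :=
  tw h1 h2 L3.closes (by decide +kernel) (ub5 h1 h2)
theorem ub7 {Γ : Type} [Group Γ] {g : ℕ → Γ} (h1 : InvOK g inv 7) (h2 : ∀ w ∈ rels, ev g w = 1) : CardLE (gen g 7) 979200 :=
  tw h1 h2 L4.closes (by decide +kernel) (ub6 h1 h2)

end Cfsg.Agent.Ct.S44
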